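/-
Self-adjoint square roots of a non-square on quadratic spaces.
-/
import Cfsg.Agent.Lib.OrthIso.NondegTwo

set_option autoImplicit false
set_option linter.unusedSectionVars false
set_option maxHeartbeats 1000000

namespace CfsgLib.ExtOrth

open Module QuadraticMap CfsgLib.PrimeIso CfsgLib.OrthIso

universe u v

variable {F : Type u} [Field F] [Fintype F] {V : Type v} [AddCommGroup V] [Module F V] [FiniteDimensional F V]

/-- A self-adjoint square root of `c` on a subspace. -/
structure SField (Q : QuadraticForm F V) (θ : Module.End F V) (c : F) (U : Submodule F V) : Prop where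
  maps : Inv θ U
  adj : ∀ u ∈ U, ∀ v ∈ U, polar Q (θ u) v = polar Q u (θ v)
  sq : ∀ v ∈ U, θ (θ v) = c • v

variable {Q : QuadraticForm F V} {θ θ' : Module.End F V} {c : F} {U U' : Submodule F V}

theorem SField.mono (A : SField Q θ c U) {W : Submodule F V} (hW : W ≤ U) (hI : Inv θ W) : SField Q θ c W :=
  ⟨hI, fun u hu v hv => A.adj u (hW hu) v (hW hv), fun v hv => A.sq v (hW hv)⟩

theorem SField.congr (A : SField Q θ c U) (h : ∀ v ∈ U, θ' v = θ v) : SField Q θ' c U :=
  ⟨fun v hv => by rw [h v hv]; exact A.maps v hv, fun u hu v hv => by rw [h u hu, h v hv]; exact A.adj u hu v hv,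
    fun v hv => by rw [h v hv, h _ (A.maps v hv)]; exact A.sq v hv⟩

theorem SField.inv_perp (A : SField Q θ c U) {Y : Submodule F V} (hYU : Y ≤ U) (hY : Inv θ Y) :
    Inv θ (perpIn (polarBilin Q) Y U) := fun x hx => ⟨A.maps x hx.1, fun y hy => by
  show polar Q y (θ x) = 0
  rw [← A.adj y (hYU hy) x hx.1]; exact hx.2 _ (hY y hy)⟩

/-- Prescribing a map on a non-degenerate subspace and on its orthogonal. -/
theorem exists_glue {P : Submodule F V} (hP : ND (polarBilin Q) P) (hQ : ND (polarBilin Q) (⊤ : Submodule F V))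
    (f g : Module.End F V) :
    ∃ h : Module.End F V, (∀ u ∈ P, h u = f u) ∧ ∀ u, (∀ y ∈ P, polar Q y u = 0) → h u = g u := by
  obtain ⟨-, hinf, hsup, -⟩ := split_perpIn refl_bilin (le_top (a := P)) hP hQ
  have hc : IsCompl P (perpIn (polarBilin Q) P ⊤) :=
    ⟨disjoint_iff.mpr hinf, codisjoint_iff.mpr hsup⟩
  refine ⟨(LinearMap.ofIsCompl hc (f.comp P.subtype) (g.comp (perpIn (polarBilin Q) P ⊤).subtype)), fun u hu => ?_,
    fun u hu => ?_⟩
  · exact LinearMap.ofIsCompl_apply_left hc ⟨u, hu⟩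
  · exact LinearMap.ofIsCompl_apply_right hc (⟨u, trivial, hu⟩ : perpIn (polarBilin Q) P ⊤)

/-- Two squares represent everything. -/
theorem two_squares {K : Type*} [Field K] [Finite K] (h2 : (2 : K) ≠ 0) {a b : K} (ha : a ≠ 0) (hb : b ≠ 0) (l : K) :
    ∃ x y : K, a * (x * x) + b * (y * y) = l := by
  classical
  have := Fintype.ofFinite K
  have hK : Fintype.card K % 2 = 1 :=
    FiniteField.odd_card_of_char_ne_two fun h => h2 (by haveI := ringChar.of_eq h; exact CharTwo.two_eq_zero)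
  obtain ⟨x, y, h⟩ := FiniteField.exists_root_sum_quadratic (f := Polynomial.C a * Polynomial.X ^ 2)
    (g := Polynomial.C b * Polynomial.X ^ 2 - Polynomial.C l)
    (Polynomial.degree_C_mul_X_pow 2 ha) (by
      rw [Polynomial.degree_sub_eq_left_of_degree_lt (by
        rw [Polynomial.degree_C_mul_X_pow 2 hb]; exact lt_of_le_of_lt Polynomial.degree_C_le (by norm_num)),
        Polynomial.degree_C_mul_X_pow 2 hb]
      rfl) hK
  refine ⟨x, y, ?_⟩
  simp only [Polynomial.eval_sub, Polynomial.eval_mul, Polynomial.eval_C, Polynomial.eval_pow, Polynomial.eval_X] at h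
  linear_combination h

section

variable (hc : ¬ IsSquare c)
include hc

theorem c_ne_zero : c ≠ 0 := fun h => hc (h ▸ IsSquare.zero)

theorem norm_ne_zero (h2 : (2 : F) ≠ 0) {a b : F} (h : ¬ (b = 0 ∧ a = 0)) : b * b - 4 * c * (a * a) ≠ 0 := fun h0 => by
  rcases eq_or_ne a 0 with ha | ha
  · subst ha
    exact h ⟨mul_self_eq_zero.mp (by linear_combination h0), rfl⟩
  · exact hc ⟨b / (2 * a), by field_simp; linear_combination -h0⟩

/-- The plane spanned by a vector and its image. -/
theorem SField.plane (A : SField Q θ c U) (h2 : (2 : F) ≠ 0) {v : V} (hv : v ∈ U)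
    (hne : ¬ (polar Q v (θ v) = 0 ∧ Q v = 0)) :
    Submodule.span F {v, θ v} ≤ U ∧ Inv θ (Submodule.span F {v, θ v}) ∧
      ND (polarBilin Q) (Submodule.span F {v, θ v}) ∧ finrank F (Submodule.span F {v, θ v}) = 2 ∧
      (Plus Q (Submodule.span F {v, θ v}) ↔
        IsSquare (polar Q v (θ v) * polar Q v (θ v) - 4 * c * (Q v * Q v))) := by
  set b := polar Q v (θ v) with hb
  set a := Q v with ha
  have hD := norm_ne_zero hc h2 hne
  have hle : Submodule.span F {v, θ v} ≤ U := Submodule.span_le.mpr (by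
    rintro x (rfl | rfl)
    · exact hv
    · exact A.maps v hv)
  have e1 : polar Q (θ v) (θ v) = 2 * c * a := by
    rw [A.adj v hv _ (A.maps v hv), A.sq v hv, polar_smul_right, polar_self, smul_eq_mul, nsmul_eq_mul, ha]
    push_cast; ring
  have e2 : Q (θ v) = c * a := by
    have := e1
    rw [polar_self, nsmul_eq_mul, Nat.cast_ofNat, mul_assoc] at this
    exact mul_left_cancel₀ h2 this
  have e3 : ∀ x y : F, polar Q (x • v + y • θ v) v = x * (2 * a) + y * b ∧
      polar Q (x • v + y • θ v) (θ v) = x * b + y * (2 * c * a) := fun x y => by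
    constructor
    · rw [polar_add_left, polar_smul_left, polar_smul_left, polar_self, polar_comm Q (θ v) v, ← hb, ← ha,
        smul_eq_mul, smul_eq_mul, nsmul_eq_mul]
      push_cast; ring
    · rw [polar_add_left, polar_smul_left, polar_smul_left, e1, ← hb, smul_eq_mul, smul_eq_mul]
  have hzero : ∀ x y : F, x * (2 * a) + y * b = 0 → x * b + y * (2 * c * a) = 0 → x = 0 ∧ y = 0 := fun x y h1 h3 => by
    constructor
    · exact (mul_eq_zero.mp (show x * (b * b - 4 * c * (a * a)) = 0 by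
        linear_combination (-(2 * c * a)) * h1 + b * h3)).resolve_right hD
    · exact (mul_eq_zero.mp (show y * (b * b - 4 * c * (a * a)) = 0 by
        linear_combination b * h1 - (2 * a) * h3)).resolve_right hD
  have hind : ∀ x y : F, x • v + y • θ v = 0 → x = 0 ∧ y = 0 := fun x y h0 => by
    obtain ⟨f1, f2⟩ := e3 x y
    rw [h0, polar_zero_left] at f1 f2
    exact hzero x y f1.symm f2.symm
  have hd : finrank F (Submodule.span F {v, θ v}) = 2 := by
    have hli : LinearIndependent F ![v, θ v] := LinearIndependent.pair_iff.mpr hind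
    have := finrank_span_eq_card hli
    rwa [Matrix.range_cons, Matrix.range_cons, Matrix.range_empty, Set.union_empty, Set.singleton_union,
      Fintype.card_fin] at this
  have hval : ∀ x y : F, Q (x • v + y • θ v) = x * x * a + x * y * b + y * y * (c * a) := fun x y => by
    rw [q_add, QuadraticMap.map_smul, QuadraticMap.map_smul, polar_smul_left, polar_smul_right, e2, ← hb, ← ha]
    simp only [smul_eq_mul]; ring
  refine ⟨hle, fun x hx => ?_, fun x hx hp => ?_, hd, ?_⟩
  · obtain ⟨s, t, rfl⟩ := Submodule.mem_span_pair.mp hx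
    rw [map_add, map_smul, map_smul, A.sq v hv, smul_smul, add_comm]
    exact Submodule.mem_span_pair.mpr ⟨t * c, s, rfl⟩
  · obtain ⟨s, t, rfl⟩ := Submodule.mem_span_pair.mp hx
    obtain ⟨f1, f2⟩ := e3 s t
    obtain ⟨rfl, rfl⟩ := hzero s t (f1.symm.trans (hp v (Submodule.subset_span (by simp))))
      (f2.symm.trans (hp (θ v) (Submodule.subset_span (by simp))))
    rw [zero_smul, zero_smul, add_zero]
  · constructor
    · rintro ⟨W, hW, hts, hWd⟩
      obtain ⟨x, hx, hx0⟩ := Submodule.exists_mem_ne_zero_of_ne_bot (p := W) fun e0 => by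
        rw [e0, finrank_bot, hd] at hWd; omega
      obtain ⟨s, t, rfl⟩ := Submodule.mem_span_pair.mp (hW hx)
      have h0 := hts _ hx
      rw [hval] at h0
      rcases eq_or_ne t 0 with ht | ht
      · have hs : s ≠ 0 := fun e0 => hx0 (by rw [e0, ht, zero_smul, zero_smul, add_zero])
        have ha0 : a = 0 := by
          refine (mul_eq_zero.mp (show (s * s) * a = 0 from ?_)).resolve_left (mul_ne_zero hs hs)
          rw [ht] at h0
          linear_combination h0
        exact ⟨b, by rw [ha0]; ring⟩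
      · exact ⟨2 * a * (s / t) + b, by field_simp; linear_combination (-4 * a) * h0⟩
    · rintro ⟨r, hr⟩
      rcases eq_or_ne a 0 with ha0 | ha0
      · refine ⟨Submodule.span F {v}, (Submodule.span_singleton_le_iff_mem _ _).mpr (Submodule.subset_span (by simp)),
          ts_span (ha ▸ ha0), ?_⟩
        rw [finrank_span_singleton fun e0 => ?_, hd]
        exact one_ne_zero (hind 1 0 (by rw [e0, smul_zero, zero_smul, add_zero])).1
      · refine ⟨Submodule.span F {((r - b) / (2 * a)) • v + (1 : F) • θ v},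
          (Submodule.span_singleton_le_iff_mem _ _).mpr (Submodule.mem_span_pair.mpr ⟨_, 1, rfl⟩), ts_span ?_, ?_⟩
        · rw [hval]; field_simp; linear_combination -hr
        · rw [finrank_span_singleton fun e0 => one_ne_zero (hind _ _ e0).2, hd]

/-- A vector with a non-degenerate plane. -/
theorem SField.exists_unit (A : SField Q θ c U) (hU : ND (polarBilin Q) U) (hne : U ≠ ⊥) :
    ∃ v ∈ U, ¬ (polar Q v (θ v) = 0 ∧ Q v = 0) := by
  obtain ⟨g, hg, hQg⟩ := exists_aniso hU hne
  exact ⟨g, hg, fun h => hQg h.2⟩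

end

/-- The quadratic extension. -/
theorem exists_square_root_of_norm (h2 : (2 : F) ≠ 0) (hc : ¬ IsSquare c) {a b a' b' : F} (h : ¬ (b = 0 ∧ a = 0))
    (h' : ¬ (b' = 0 ∧ a' = 0))
    (hsq : IsSquare (b * b - 4 * c * (a * a)) ↔ IsSquare (b' * b' - 4 * c * (a' * a'))) :
    ∃ x y : F, (x * x + c * (y * y)) * b + 4 * c * a * (x * y) = b' ∧
      (x * x + c * (y * y)) * a + b * (x * y) = a' := by
  classical
  haveI : Fact (∀ r : F, r ^ 2 ≠ c + 0 * r) := ⟨fun r hr => hc ⟨r, by linear_combination -hr⟩⟩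
  haveI : Finite (QuadraticAlgebra F c 0) := Finite.of_injective (fun z : (QuadraticAlgebra F c 0) => (z.re, z.im)) fun z w hzw => by
    simp only [Prod.mk.injEq] at hzw
    exact QuadraticAlgebra.ext hzw.1 hzw.2
  haveI := Fintype.ofFinite (QuadraticAlgebra F c 0)
  obtain ⟨p, hp⟩ := CharP.exists F
  obtain ⟨k, hpp, hk⟩ := FiniteField.card F p
  haveI : Fact p.Prime := ⟨hpp⟩
  haveI : CharP (QuadraticAlgebra F c 0) p := charP_of_injective_algebraMap (algebraMap F (QuadraticAlgebra F c 0)).injective p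
  have hFodd : Fintype.card F % 2 = 1 :=
    FiniteField.odd_card_of_char_ne_two fun e => h2 (by haveI := ringChar.of_eq e; exact CharTwo.two_eq_zero)
  have hE2 : ringChar (QuadraticAlgebra F c 0) ≠ 2 := by
    rw [ringChar.eq (QuadraticAlgebra F c 0) p]
    intro e
    subst e
    exact h2 CharTwo.two_eq_zero
  set A : F →+* (QuadraticAlgebra F c 0) := algebraMap F (QuadraticAlgebra F c 0)
  let ω : (QuadraticAlgebra F c 0) := ⟨0, 1⟩
  have hω : ω * ω = A c := by ext <;> simp [ω, A]
  have hmk : ∀ x y : F, (⟨x, y⟩ : (QuadraticAlgebra F c 0)) = A x + A y * ω := fun x y => by ext <;> simp [ω, A]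
  have hωq : ω ^ Fintype.card F = -ω := by
    obtain ⟨l, hl⟩ : ∃ l, Fintype.card F = 2 * l + 1 := ⟨Fintype.card F / 2, by omega⟩
    have hc0 : c ≠ 0 := fun e => hc (e ▸ IsSquare.zero)
    have hcl : c ^ l = -1 := by
      have hF : ringChar F ≠ 2 := fun e => h2 (by haveI := ringChar.of_eq e; exact CharTwo.two_eq_zero)
      rw [show l = Fintype.card F / 2 by omega]
      exact (FiniteField.pow_dichotomy hF hc0).resolve_left fun e => hc ((FiniteField.isSquare_iff hF hc0).mpr e)
    rw [hl, pow_succ, pow_mul, pow_two, hω, ← map_pow, hcl, map_neg, map_one, neg_one_mul]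
  have hconj : ∀ z : (QuadraticAlgebra F c 0), z ^ Fintype.card F = A z.re - A z.im * ω := fun z => by
    conv_lhs => rw [show z = A z.re + A z.im * ω from hmk z.re z.im]
    rw [hk, add_pow_char_pow, mul_pow, ← hk, ← map_pow, ← map_pow, FiniteField.pow_card, FiniteField.pow_card, hωq,
      mul_neg, ← sub_eq_add_neg]
  have hnorm : ∀ z : (QuadraticAlgebra F c 0), z ^ (Fintype.card F + 1) = A (z.re * z.re - c * (z.im * z.im)) := fun z => by
    have e : z = A z.re + A z.im * ω := hmk z.re z.im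
    rw [pow_succ, hconj]
    simp only [map_sub, map_mul]
    linear_combination (A z.re - A z.im * ω) * e - (A z.im * A z.im) * hω
  set l₁ : (QuadraticAlgebra F c 0) := ⟨b, 2 * a⟩
  set l₂ : (QuadraticAlgebra F c 0) := ⟨b', 2 * a'⟩
  have hl₁ : l₁ ≠ 0 := fun e => h ⟨congrArg QuadraticAlgebra.re e,
    (mul_eq_zero.mp (show 2 * a = 0 from congrArg QuadraticAlgebra.im e)).resolve_left h2⟩
  have hl₂ : l₂ ≠ 0 := fun e => h' ⟨congrArg QuadraticAlgebra.re e,
    (mul_eq_zero.mp (show 2 * a' = 0 from congrArg QuadraticAlgebra.im e)).resolve_left h2⟩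
  have hN₁ := norm_ne_zero hc h2 h
  have hN₂ := norm_ne_zero hc h2 h'
  have hne : l₂ / l₁ ≠ 0 := div_ne_zero hl₂ hl₁
  have hs : IsSquare (l₂ / l₁) := by
    rw [FiniteField.isSquare_iff hE2 hne]
    have hcard : Fintype.card (QuadraticAlgebra F c 0) = Fintype.card F * Fintype.card F := by
      rw [← Fintype.card_prod]
      exact Fintype.card_congr ⟨fun z => (z.re, z.im), fun z => ⟨z.1, z.2⟩, fun z => rfl, fun z => rfl⟩
    obtain ⟨l, hl⟩ : ∃ l, Fintype.card F = 2 * l + 1 := ⟨Fintype.card F / 2, by omega⟩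
    have hcard2 : Fintype.card (QuadraticAlgebra F c 0) / 2 = (Fintype.card F + 1) * l := by
      rw [hcard, hl, show (2 * l + 1) * (2 * l + 1) = (2 * l + 1 + 1) * l * 2 + 1 by ring]
      omega
    rw [hcard2, pow_mul, div_pow, hnorm, hnorm, ← map_div₀, ← map_pow]
    show A (((b' * b' - c * ((2 * a') * (2 * a'))) / (b * b - c * ((2 * a) * (2 * a)))) ^ l) = 1
    rw [show b' * b' - c * ((2 * a') * (2 * a')) = b' * b' - 4 * c * (a' * a') by ring,
      show b * b - c * ((2 * a) * (2 * a)) = b * b - 4 * c * (a * a) by ring]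
    have hF : ringChar F ≠ 2 := fun e => h2 (by haveI := ringChar.of_eq e; exact CharTwo.two_eq_zero)
    have : IsSquare ((b' * b' - 4 * c * (a' * a')) / (b * b - 4 * c * (a * a))) := by
      rw [div_eq_mul_inv, CfsgLib.OmegaMem.isSquare_mul_iff h2 hN₂ (inv_ne_zero hN₁), isSquare_inv]
      exact hsq.symm
    rw [show l = Fintype.card F / 2 by omega, (FiniteField.isSquare_iff hF (div_ne_zero hN₂ hN₁)).mp this, map_one]
  obtain ⟨z, hz⟩ := hs
  have hz' : l₂ = z * z * l₁ := by rw [← hz, div_mul_cancel₀ _ hl₁]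
  refine ⟨z.re, z.im, ?_, ?_⟩
  · have := congrArg QuadraticAlgebra.re hz'
    simp [l₁, l₂] at this
    linear_combination -this
  · have := congrArg QuadraticAlgebra.im hz'
    simp [l₁, l₂] at this
    refine mul_left_cancel₀ h2 ?_
    linear_combination -this

/-- The pair of a scaled vector. -/
theorem SField.scale (A : SField Q θ c U) (h2 : (2 : F) ≠ 0) {v : V} (hv : v ∈ U) (x y : F) :
    polar Q (x • v + y • θ v) (θ (x • v + y • θ v)) =
        (x * x + c * (y * y)) * polar Q v (θ v) + 4 * c * Q v * (x * y) ∧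
      Q (x • v + y • θ v) = (x * x + c * (y * y)) * Q v + polar Q v (θ v) * (x * y) := by
  have e1 : polar Q (θ v) (θ v) = 2 * c * Q v := by
    rw [A.adj v hv _ (A.maps v hv), A.sq v hv, polar_smul_right, polar_self, smul_eq_mul, nsmul_eq_mul]
    push_cast; ring
  have e2 : Q (θ v) = c * Q v := by
    have := e1
    rw [polar_self, nsmul_eq_mul, Nat.cast_ofNat, mul_assoc] at this
    exact mul_left_cancel₀ h2 this
  constructor
  · rw [map_add, map_smul, map_smul, A.sq v hv]
    simp only [polar_add_left, polar_add_right, polar_smul_left, polar_smul_right, smul_eq_mul, e1, polar_self,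
      nsmul_eq_mul, polar_comm Q (θ v) v, Nat.cast_ofNat]
    ring
  · rw [q_add, QuadraticMap.map_smul, QuadraticMap.map_smul, polar_smul_left, polar_smul_right, e2]
    simp only [smul_eq_mul]; ring

/-- Every pair is a value when the space has two planes. -/
theorem SField.exists_value (A : SField Q θ c U) (h2 : (2 : F) ≠ 0) (hc : ¬ IsSquare c) (hU : ND (polarBilin Q) U)
    (hd : 4 ≤ finrank F U) (b₀ a₀ : F) : ∃ v ∈ U, polar Q v (θ v) = b₀ ∧ Q v = a₀ := by
  classical
  obtain ⟨v, hv, hne⟩ := A.exists_unit hc hU fun e => by rw [e, finrank_bot] at hd; omega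
  obtain ⟨hPU, hPI, hPn, hPd, -⟩ := A.plane hc h2 hv hne
  obtain ⟨hRn, -, -, hRd⟩ := split_perpIn refl_bilin hPU hPn hU
  set R := perpIn (polarBilin Q) (Submodule.span F {v, θ v}) U
  have AR : SField Q θ c R := A.mono perpIn_le (A.inv_perp hPU hPI)
  obtain ⟨w, hw, hwne⟩ := AR.exists_unit hc hRn fun e => by rw [e, finrank_bot] at hRd; omega
  haveI : Fact (∀ r : F, r ^ 2 ≠ c + 0 * r) := ⟨fun r hr => hc ⟨r, by linear_combination -hr⟩⟩
  haveI : Finite (QuadraticAlgebra F c 0) := Finite.of_injective (fun z : (QuadraticAlgebra F c 0) => (z.re, z.im)) fun z w hzw => by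
    simp only [Prod.mk.injEq] at hzw
    exact QuadraticAlgebra.ext hzw.1 hzw.2
  obtain ⟨z, z', hz⟩ := two_squares (K := (QuadraticAlgebra F c 0)) (fun e => h2 (by simpa [QuadraticAlgebra.re_ofNat] using congrArg QuadraticAlgebra.re e))
    (a := ⟨polar Q v (θ v), 2 * Q v⟩) (b := ⟨polar Q w (θ w), 2 * Q w⟩)
    (fun e => hne ⟨congrArg QuadraticAlgebra.re e,
      (mul_eq_zero.mp (show 2 * Q v = 0 from congrArg QuadraticAlgebra.im e)).resolve_left h2⟩)
    (fun e => hwne ⟨congrArg QuadraticAlgebra.re e,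
      (mul_eq_zero.mp (show 2 * Q w = 0 from congrArg QuadraticAlgebra.im e)).resolve_left h2⟩)
    ⟨b₀, 2 * a₀⟩
  set x₁ := z.re • v + z.im • θ v
  set x₂ := z'.re • w + z'.im • θ w
  obtain ⟨f1, f2⟩ := A.scale h2 hv z.re z.im
  obtain ⟨g1, g2⟩ := A.scale h2 hw.1 z'.re z'.im
  have hx₁ : x₁ ∈ Submodule.span F {v, θ v} := Submodule.mem_span_pair.mpr ⟨_, _, rfl⟩
  have hx₂ : x₂ ∈ R := add_mem (R.smul_mem _ hw) (R.smul_mem _ (AR.maps w hw))
  have o1 : polar Q x₁ x₂ = 0 := hx₂.2 x₁ hx₁
  have o2 : polar Q x₁ (θ x₂) = 0 := (AR.maps x₂ hx₂).2 x₁ hx₁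
  have o3 : polar Q x₂ (θ x₁) = 0 := (polar_comm Q x₂ (θ x₁)).trans (hx₂.2 _ (hPI x₁ hx₁))
  have r1 := congrArg QuadraticAlgebra.re hz
  have r2 := congrArg QuadraticAlgebra.im hz
  simp at r1 r2
  refine ⟨x₁ + x₂, add_mem (hPU hx₁) hx₂.1, ?_, mul_left_cancel₀ h2 ?_⟩
  · rw [map_add, polar_add_left, polar_add_right, polar_add_right, o2, o3, f1, g1]
    linear_combination r1
  · rw [q_add, o1, f2, g2]
    linear_combination r2

/-- Equivariant maps between subspaces of the same type. -/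
theorem SField.exists_map (h2 : (2 : F) ≠ 0) (hc : ¬ IsSquare c) (hQ : ND (polarBilin Q) (⊤ : Submodule F V))
    (e : ℕ) : ∀ U U' : Submodule F V, SField Q θ c U → SField Q θ' c U' → ND (polarBilin Q) U →
      ND (polarBilin Q) U' → finrank F U = 2 * e → finrank F U' = 2 * e → (Plus Q U ↔ Plus Q U') →
      ∃ f : Module.End F V, (∀ u ∈ U, f u ∈ U') ∧ (∀ u ∈ U, Q (f u) = Q u) ∧ ∀ u ∈ U, f (θ u) = θ' (f u) := by
  induction e with
  | zero =>
    intro U U' A A' _ _ hd _ _
    have hU : U = ⊥ := Submodule.finrank_eq_zero.mp (by omega)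
    exact ⟨0, fun u _ => U'.zero_mem, fun u hu => by
      rw [hU, Submodule.mem_bot] at hu
      rw [hu, map_zero], fun u _ => by simp⟩
  | succ e ih =>
    intro U U' A A' hU hU' hd hd' hp
    obtain ⟨v, hv, hne⟩ := A.exists_unit hc hU fun e0 => by rw [e0, finrank_bot] at hd; omega
    obtain ⟨hPU, hPI, hPn, hPd, hPp⟩ := A.plane hc h2 hv hne
    obtain ⟨v', hv', hb, ha⟩ : ∃ v' ∈ U', polar Q v' (θ' v') = polar Q v (θ v) ∧ Q v' = Q v := by
      rcases Nat.eq_zero_or_pos e with he | he
      · subst he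
        obtain ⟨w, hw, hwne⟩ := A'.exists_unit hc hU' fun e0 => by rw [e0, finrank_bot] at hd'; omega
        obtain ⟨hwU, -, -, hwd, hwp⟩ := A'.plane hc h2 hw hwne
        have e1 : Submodule.span F {v, θ v} = U := Submodule.eq_of_le_of_finrank_eq hPU (by omega)
        have e2 : Submodule.span F {w, θ' w} = U' := Submodule.eq_of_le_of_finrank_eq hwU (by omega)
        rw [e1] at hPp
        rw [e2] at hwp
        obtain ⟨x, y, hx, hy⟩ := exists_square_root_of_norm h2 hc hwne hne (hwp.symm.trans (hp.symm.trans hPp))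
        obtain ⟨f1, f2⟩ := A'.scale h2 hw x y
        exact ⟨_, add_mem (U'.smul_mem x hw) (U'.smul_mem y (A'.maps w hw)), f1.trans hx, f2.trans hy⟩
      · exact A'.exists_value h2 hc hU' (by omega) _ _
    have hne' : ¬ (polar Q v' (θ' v') = 0 ∧ Q v' = 0) := by rw [hb, ha]; exact hne
    obtain ⟨hPU', hPI', hPn', hPd', hPp'⟩ := A'.plane hc h2 hv' hne'
    obtain ⟨hRn, -, hsup, hRd⟩ := split_perpIn refl_bilin hPU hPn hU
    obtain ⟨hRn', -, hsup', hRd'⟩ := split_perpIn refl_bilin hPU' hPn' hU'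
    set P := Submodule.span F {v, θ v}
    set P' := Submodule.span F {v', θ' v'}
    set R := perpIn (polarBilin Q) P U
    set R' := perpIn (polarBilin Q) P' U'
    have hpR : Plus Q R ↔ Plus Q R' := by
      rw [hb, ha, ← hPp] at hPp'
      have h1 := plus_sup_iff hPn hRn (fun y hy z hz => hz.2 y hy) ⟨1, hPd⟩ ⟨e, by omega⟩
      have h3 := plus_sup_iff hPn' hRn' (fun y hy z hz => hz.2 y hy) ⟨1, hPd'⟩ ⟨e, by omega⟩
      rw [hsup] at h1
      rw [hsup'] at h3
      tauto
    obtain ⟨f₂, hf₂m, hf₂q, hf₂c⟩ := ih R R' (A.mono perpIn_le (A.inv_perp hPU hPI))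
      (A'.mono perpIn_le (A'.inv_perp hPU' hPI')) hRn hRn' (by omega) (by omega) hpR
    set a := Q v
    set b := polar Q v (θ v)
    set D := 4 * c * (a * a) - b * b with hDdef
    have hD : D ≠ 0 := fun e0 => norm_ne_zero hc h2 hne (by linear_combination -e0)
    let L : V → V →ₗ[F] F := fun t => polarBilin Q t
    let f₁ : Module.End F V :=
      ((D⁻¹ * (2 * c * a)) • L v - (D⁻¹ * b) • L (θ v)).smulRight v' +
        ((D⁻¹ * (2 * a)) • L (θ v) - (D⁻¹ * b) • L v).smulRight (θ' v')
    have hf₁ : ∀ x y : F, f₁ (x • v + y • θ v) = x • v' + y • θ' v' := fun x y => by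
      have e1 : polar Q (θ v) (θ v) = 2 * c * a := by
        rw [A.adj v hv _ (A.maps v hv), A.sq v hv, polar_smul_right, polar_self, smul_eq_mul, nsmul_eq_mul]
        push_cast; ring
      simp only [f₁, L, LinearMap.add_apply, LinearMap.smulRight_apply, LinearMap.sub_apply, LinearMap.smul_apply,
        polarBilin_apply_apply, polar_add_right, polar_smul_right, polar_self, nsmul_eq_mul, smul_eq_mul,
        polar_comm Q (θ v) v, e1, Nat.cast_ofNat]
      congr 1 <;> congr 1 <;> field_simp <;> ring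
    obtain ⟨f, hfP, hfR⟩ := exists_glue hPn hQ f₁ f₂
    have hPimg : ∀ u ∈ P, ∃ x y : F, u = x • v + y • θ v ∧ f u = x • v' + y • θ' v' := fun u hu => by
      obtain ⟨x, y, rfl⟩ := Submodule.mem_span_pair.mp hu
      exact ⟨x, y, rfl, by rw [hfP _ (Submodule.mem_span_pair.mpr ⟨x, y, rfl⟩), hf₁]⟩
    refine ⟨f, fun u hu => ?_, fun u hu => ?_, fun u hu => ?_⟩ <;>
      obtain ⟨y, hy, z, hz, rfl⟩ := Submodule.mem_sup.mp (hsup.ge hu)
    · obtain ⟨s, t, -, hy2⟩ := hPimg y hy
      rw [map_add, hy2, hfR z hz.2]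
      exact add_mem (add_mem (U'.smul_mem _ hv') (U'.smul_mem _ (A'.maps v' hv'))) (hf₂m z hz).1
    · obtain ⟨s, t, hy1, hy2⟩ := hPimg y hy
      rw [map_add, hy2, hfR z hz.2, q_add (Q := Q) (s • v' + t • θ' v') (f₂ z), q_add (Q := Q) y z, hf₂q z hz, show polar Q y z = 0 from hz.2 y hy,
        show polar Q (s • v' + t • θ' v') (f₂ z) = 0 from
          (hf₂m z hz).2 _ (Submodule.mem_span_pair.mpr ⟨s, t, rfl⟩),
        (A'.scale h2 hv' s t).2, hy1, (A.scale h2 hv s t).2, ha, hb]
    · obtain ⟨s, t, hy1, hy2⟩ := hPimg y hy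
      have hθz : θ z ∈ R := A.inv_perp hPU hPI z hz
      rw [map_add θ, map_add f, map_add f, hy2, hfR z hz.2, hfR (θ z) hθz.2, hf₂c z hz, map_add θ']
      congr 1
      rw [hy1, map_add, map_smul, map_smul, A.sq v hv, smul_smul, add_comm, map_add θ', map_smul, map_smul,
        A'.sq v' hv', smul_smul, add_comm (s • θ' v'),
        hfP _ (Submodule.mem_span_pair.mpr ⟨t * c, s, rfl⟩), hf₁]

/-- Two square roots are conjugate by an isometry. -/
theorem exists_conj (h2 : (2 : F) ≠ 0) (hc : ¬ IsSquare c) (hQ : ND (polarBilin Q) (⊤ : Submodule F V))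
    (A : SField Q θ c ⊤) (A' : SField Q θ' c ⊤) {d : ℕ} (hd : finrank F V = 2 * d) :
    ∃ g : V ≃ₗ[F] V, (∀ v, Q (g v) = Q v) ∧ ∀ v, g (θ v) = θ' (g v) := by
  obtain ⟨f, -, hq, hcomm⟩ := SField.exists_map h2 hc hQ d ⊤ ⊤ A A' hQ hQ (by rw [finrank_top, hd])
    (by rw [finrank_top, hd]) Iff.rfl
  have hinj : Function.Injective f := (injective_iff_map_eq_zero f).mpr fun x hx => hQ x trivial fun y _ => by
    show polar Q x y = 0
    have hp : polar Q (f x) (f y) = polar Q x y := by
      simp only [polar, ← map_add]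
      rw [hq _ trivial, hq _ trivial, hq _ trivial]
    rw [← hp, hx, polar_zero_left]
  exact ⟨LinearEquiv.ofBijective f ⟨hinj, LinearMap.injective_iff_surjective.mp hinj⟩, fun v => hq v trivial,
    fun v => hcomm v trivial⟩

/-- A square root on a plane with an orthogonal basis. -/
theorem plane_root (h2 : (2 : F) ≠ 0) {u w : V} (hu : Q u ≠ 0) (hw : Q w ≠ 0)
    (huw : polar Q u w = 0) (c : F) :
    ∃ s t : F, ∃ θ : Module.End F V, s * s + Q w / Q u * (t * t) = c ∧ θ u = s • u + t • w ∧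
      θ w = (t * (Q w / Q u)) • u - s • w ∧ SField Q θ c (Submodule.span F {u} ⊔ Submodule.span F {w}) := by
  obtain ⟨s, t, hst⟩ := two_squares (K := F) h2 one_ne_zero (div_ne_zero hw hu) c
  rw [one_mul] at hst
  let L : V → V →ₗ[F] F := fun x => polarBilin Q x
  let θ : Module.End F V := ((2 * Q u)⁻¹ • L u).smulRight (s • u + t • w) +
    ((2 * Q w)⁻¹ • L w).smulRight ((t * (Q w / Q u)) • u - s • w)
  have hθ : ∀ x, θ x = ((2 * Q u)⁻¹ * polar Q u x) • (s • u + t • w) +
      ((2 * Q w)⁻¹ * polar Q w x) • ((t * (Q w / Q u)) • u - s • w) := fun x => rfl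
  have e1 : θ u = s • u + t • w := by
    rw [hθ, polar_self, polar_comm Q w u, huw, mul_zero, zero_smul, add_zero, nsmul_eq_mul, Nat.cast_ofNat,
      inv_mul_cancel₀ (mul_ne_zero h2 hu), one_smul]
  have e2 : θ w = (t * (Q w / Q u)) • u - s • w := by
    rw [hθ, huw, mul_zero, zero_smul, zero_add, polar_self, nsmul_eq_mul, Nat.cast_ofNat,
      inv_mul_cancel₀ (mul_ne_zero h2 hw), one_smul]
  have key : ∀ x ∈ Submodule.span F {u} ⊔ Submodule.span F {w}, ∃ α β : F, x = α • u + β • w := fun x hx => by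
    obtain ⟨a, ha, b, hb, rfl⟩ := Submodule.mem_sup.mp hx
    obtain ⟨α, rfl⟩ := Submodule.mem_span_singleton.mp ha
    obtain ⟨β, rfl⟩ := Submodule.mem_span_singleton.mp hb
    exact ⟨α, β, rfl⟩
  have mk : ∀ α β : F, α • u + β • w ∈ Submodule.span F {u} ⊔ Submodule.span F {w} := fun α β =>
    Submodule.add_mem_sup (Submodule.smul_mem _ _ (Submodule.mem_span_singleton_self u))
      (Submodule.smul_mem _ _ (Submodule.mem_span_singleton_self w))
  refine ⟨s, t, θ, hst, e1, e2, fun x hx => ?_, fun x hx y hy => ?_, fun x hx => ?_⟩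
  · obtain ⟨α, β, rfl⟩ := key x hx
    rw [map_add, map_smul, map_smul, e1, e2,
      show α • (s • u + t • w) + β • ((t * (Q w / Q u)) • u - s • w) =
        (α * s + β * (t * (Q w / Q u))) • u + (α * t - β * s) • w by module]
    exact mk _ _
  · obtain ⟨α, β, rfl⟩ := key x hx
    obtain ⟨α', β', rfl⟩ := key y hy
    simp only [map_add, map_smul, e1, e2, sub_eq_add_neg, polar_add_left, polar_add_right, polar_smul_left,
      polar_smul_right, polar_neg_left, polar_neg_right, polar_self, nsmul_eq_mul, smul_eq_mul,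
      polar_comm Q w u, huw, Nat.cast_ofNat]
    field_simp
    ring
  · obtain ⟨α, β, rfl⟩ := key x hx
    simp only [map_add, map_smul, map_sub, e1, e2]
    rw [← hst]
    module

/-- Square roots exist on every space of even dimension. -/
theorem exists_root (h2 : (2 : F) ≠ 0) (hQ : ND (polarBilin Q) (⊤ : Submodule F V)) (c : F) (e : ℕ) :
    ∀ U : Submodule F V, ND (polarBilin Q) U → finrank F U = 2 * e → ∃ θ : Module.End F V, SField Q θ c U := by
  induction e with
  | zero =>
    intro U _ hd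
    have hU : U = ⊥ := Submodule.finrank_eq_zero.mp (by omega)
    exact ⟨0, fun u _ => U.zero_mem, fun u _ v _ => by simp, fun v hv => by
      rw [hU, Submodule.mem_bot] at hv; rw [hv]; simp⟩
  | succ e ih =>
    intro U hU hd
    obtain ⟨u, hu, hQu⟩ := exists_aniso hU fun e0 => by rw [e0, finrank_bot] at hd; omega
    obtain ⟨hSn, hSd⟩ := span_aniso_nd (Q := Q) h2 hQu
    obtain ⟨hTn, -, -, hTd⟩ := split_perpIn refl_bilin ((Submodule.span_singleton_le_iff_mem u U).mpr hu) hSn hU
    obtain ⟨w, hw, hQw⟩ := exists_aniso hTn fun e0 => by rw [e0, finrank_bot] at hTd; omega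
    have huw : polar Q u w = 0 := hw.2 u (Submodule.mem_span_singleton_self u)
    obtain ⟨hPn, hPd, -⟩ := plane_of_pair h2 hQu hQw huw
    obtain ⟨-, -, θ₁, -, -, -, A₁⟩ := plane_root h2 hQu hQw huw c
    set P := Submodule.span F {u} ⊔ Submodule.span F {w}
    have hPU : P ≤ U := sup_le ((Submodule.span_singleton_le_iff_mem u U).mpr hu)
      ((Submodule.span_singleton_le_iff_mem w U).mpr hw.1)
    obtain ⟨hRn, -, hsup, hRd⟩ := split_perpIn refl_bilin hPU hPn hU
    set R := perpIn (polarBilin Q) P U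
    obtain ⟨θ₂, A₂⟩ := ih R hRn (by omega)
    obtain ⟨θ, hθP, hθR⟩ := exists_glue hPn hQ θ₁ θ₂
    exact ⟨θ, glue_sfield (A₁.congr hθP) (A₂.congr fun v hv => hθR v hv.2) hsup fun y hy z hz => hz.2 y hy⟩
where
  glue_sfield {θ : Module.End F V} {c : F} {P R U : Submodule F V} (A₁ : SField Q θ c P) (A₂ : SField Q θ c R)
      (hsup : P ⊔ R = U) (horth : ∀ y ∈ P, ∀ z ∈ R, polar Q y z = 0) : SField Q θ c U := by
    subst hsup
    refine ⟨A₁.maps.sup A₂.maps, fun x hx y hy => ?_, fun x hx => ?_⟩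
    · obtain ⟨a, ha, b, hb, rfl⟩ := Submodule.mem_sup.mp hx
      obtain ⟨a', ha', b', hb', rfl⟩ := Submodule.mem_sup.mp hy
      simp only [map_add, polar_add_left, polar_add_right, A₁.adj a ha a' ha', A₂.adj b hb b' hb',
        horth _ (A₁.maps a ha) b' hb', horth a ha _ (A₂.maps b' hb'), polar_comm Q (θ b) a',
        horth a' ha' _ (A₂.maps b hb), polar_comm Q b (θ a'), horth _ (A₁.maps a' ha') b hb]
    · obtain ⟨a, ha, b, hb, rfl⟩ := Submodule.mem_sup.mp hx
      rw [map_add, map_add, A₁.sq a ha, A₂.sq b hb, smul_add]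

end CfsgLib.ExtOrth
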