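/-
A self-adjoint quadratic field and its normaliser.
-/
import Cfsg.Agent.Lib.ExtOrth.Planes
import Cfsg.Agent.Lib.Aschbacher.HermField

set_option autoImplicit false
set_option linter.unusedSectionVars false
set_option maxHeartbeats 1000000

namespace CfsgLib.ExtOrth

open Module QuadraticMap CfsgLib.PrimeIso CfsgLib.OrthIso
open scoped Matrix MatrixGroups

universe u

variable {F : Type u} [Field F] [Fintype F] {ι : Type} [Fintype ι] [DecidableEq ι]

local notation "M" => Matrix ι ι F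

/-- A generator squaring to a non-square. -/
theorem exists_field (h2 : (2 : F) ≠ 0) [Nonempty ι] (Q : QuadraticForm F (ι → F))
    {K : Subalgebra F M} (hK : Cfsg.Geo.IsFieldSubalgebra 2 K) (hKf : Cfsg.Geo.IsSelfAdjointFor (polar ⇑Q) K) :
    ∃ Θ ∈ K, ∃ c : F, ¬ IsSquare c ∧ SField Q (Matrix.toLin' Θ) c ⊤ ∧
      ∀ k ∈ K, ∃ α β : F, k = α • (1 : M) + β • Θ := by
  have hone : (1 : M) ≠ 0 := one_ne_zero
  obtain ⟨θ₀, hθ₀, hθ₀1⟩ : ∃ θ ∈ K, θ ∉ Submodule.span F {(1 : M)} := by
    by_contra hc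
    push Not at hc
    have h1 : K.toSubmodule ≤ Submodule.span F {(1 : M)} := hc
    have h3 := Submodule.finrank_mono h1
    rw [Subalgebra.finrank_toSubmodule, hK.finrank_eq, finrank_span_singleton hone] at h3
    omega
  have hli : LinearIndependent F ![(1 : M), θ₀] := by
    refine (LinearIndependent.pair_iff' hone).mpr fun a ha => hθ₀1 ?_
    exact Submodule.mem_span_singleton.mpr ⟨a, ha⟩
  have hspan₀ : ∀ k ∈ K, ∃ α β : F, k = α • (1 : M) + β • θ₀ := fun k hk => by
    have heq : Submodule.span F (Set.range ![(1 : M), θ₀]) = K.toSubmodule := by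
      refine Submodule.eq_of_le_of_finrank_le (Submodule.span_le.2 ?_) ?_
      · rintro _ ⟨i, rfl⟩
        fin_cases i
        exacts [K.one_mem, hθ₀]
      · rw [finrank_span_eq_card hli, Subalgebra.finrank_toSubmodule, hK.finrank_eq]; rfl
    obtain ⟨r, hr⟩ := (Submodule.mem_span_range_iff_exists_fun F).1
      (heq.ge ((Subalgebra.mem_toSubmodule K).2 hk))
    exact ⟨r 0, r 1, by rw [← hr, Fin.sum_univ_two]; rfl⟩
  obtain ⟨α, β, hsq⟩ := hspan₀ _ (K.mul_mem hθ₀ hθ₀)
  set Θ := θ₀ - (β / 2) • (1 : M) with hΘ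
  set c := α + β * β / 4 with hc
  have hΘK : Θ ∈ K := K.sub_mem hθ₀ (K.smul_mem K.one_mem _)
  have h4 : (4 : F) ≠ 0 := by rw [show (4 : F) = 2 * 2 by norm_num]; exact mul_ne_zero h2 h2
  have hsq' : Θ * Θ = c • (1 : M) := by
    simp only [hΘ, hc, sub_mul, mul_sub, Matrix.smul_mul, Matrix.mul_smul, one_mul, mul_one, hsq]
    match_scalars <;> field_simp <;> ring
  have hΘ1 : ∀ a : F, a • (1 : M) ≠ Θ := fun a ha => hθ₀1 (Submodule.mem_span_singleton.mpr ⟨a + β / 2, by
    rw [add_smul, ha, hΘ, sub_add_cancel]⟩)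
  refine ⟨Θ, hΘK, c, ?_, ⟨fun _ _ => trivial, fun u _ v _ => ?_, fun v _ => ?_⟩, fun k hk => ?_⟩
  · rintro ⟨s, hs⟩
    have hmul : (Θ - s • (1 : M)) * (Θ + s • (1 : M)) = 0 := by
      simp only [sub_mul, mul_add, Matrix.smul_mul, Matrix.mul_smul, one_mul, mul_one, hsq', hs]
      module
    have h0 : Θ - s • (1 : M) ≠ 0 := fun h => hΘ1 s (sub_eq_zero.mp h).symm
    have h1 := CfsgLib.Aschbacher.fieldSubalgebra_mul_eq_zero hK (K.sub_mem hΘK (K.smul_mem K.one_mem s)) hmul h0
    exact hΘ1 (-s) (by rw [neg_smul]; exact (eq_neg_of_add_eq_zero_left h1).symm)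
  · simp only [Matrix.toLin'_apply]
    exact hKf Θ hΘK u v
  · simp only [Matrix.toLin'_apply]
    rw [Matrix.mulVec_mulVec, hsq', Matrix.smul_mulVec, Matrix.one_mulVec]
  · obtain ⟨a, b, rfl⟩ := hspan₀ k hk
    exact ⟨a + b * (β / 2), b, by rw [hΘ]; module⟩

/-- Elements commuting or anticommuting with the square root normalise the field. -/
theorem mem_normalizer {K : Subalgebra F M} {θ : M} (hθ : θ ∈ K)
    (hspan : ∀ k ∈ K, ∃ α β : F, k = α • 1 + β • θ) {g : GL ι F} {s : F} (hs : s * s = 1)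
    (hg : (g : M) * θ = s • (θ * (g : M))) : g ∈ Cfsg.Geo.subalgebraNormalizer K := by
  have hgi : (g : M) * θ * ((g⁻¹ : GL ι F) : M) = s • θ := by
    rw [hg, Matrix.smul_mul, Matrix.mul_assoc, Units.mul_inv, Matrix.mul_one]
  have hfwd : ∀ α β : F, (g : M) * (α • 1 + β • θ) * ((g⁻¹ : GL ι F) : M) = α • 1 + (β * s) • θ :=
    fun α β => by
      rw [mul_add, add_mul, Matrix.mul_smul, Matrix.mul_smul, mul_one, Matrix.smul_mul, Matrix.smul_mul, Units.mul_inv,
        hgi, smul_smul]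
  intro k
  refine ⟨fun hk => ?_, fun hk => ?_⟩
  · obtain ⟨α, β, rfl⟩ := hspan k hk
    rw [hfwd]
    exact K.add_mem (K.smul_mem K.one_mem _) (K.smul_mem hθ _)
  · obtain ⟨α, β, hab⟩ := hspan _ hk
    have h : k = α • 1 + (β * s) • θ := by
      refine g.isUnit.mul_left_cancel ((g⁻¹).isUnit.mul_right_cancel ?_)
      rw [hab, hfwd, mul_assoc β, hs, mul_one]
    rw [h]
    exact K.add_mem (K.smul_mem K.one_mem _) (K.smul_mem hθ _)

/-- Conversely, an element of odd scalar period in the normaliser commutes with the square root. -/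
theorem commute_of_mem (h2 : (2 : F) ≠ 0) [Nonempty ι] {K : Subalgebra F M} {θ : M} {c : F}
    (hc : ¬ IsSquare c) (hsq₀ : θ * θ = c • 1) (hθ : θ ∈ K)
    (hspan : ∀ k ∈ K, ∃ α β : F, k = α • 1 + β • θ) {g : GL ι F}
    (hg : g ∈ Cfsg.Geo.subalgebraNormalizer K) {r : ℕ} (hr : Odd r) {z : F} (hz : ((g ^ r : GL ι F) : M) = z • 1) :
    (g : M) * θ = θ * (g : M) := by
  set G := (g : M)
  set Gi := ((g⁻¹ : GL ι F) : M)
  have hGG : Gi * G = 1 := Units.inv_mul _
  obtain ⟨α, β, hab⟩ := hspan _ ((hg θ).mp hθ)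
  have hone : (1 : M) ≠ 0 := one_ne_zero
  have hθ1 : ∀ a : F, a • (1 : M) ≠ θ := fun a ha => by
    have h := hsq₀
    rw [← ha, Matrix.smul_mul, Matrix.mul_smul, Matrix.one_mul, smul_smul] at h
    exact hc ⟨a, (smul_left_injective F hone h).symm⟩
  have hc0 : c ≠ 0 := fun h => hc (h ▸ IsSquare.zero)
  have hli := (LinearIndependent.pair_iff' hone).mpr hθ1
  have hsq : (α • (1 : M) + β • θ) * (α • (1 : M) + β • θ) = c • 1 := by
    rw [← hab, show G * θ * Gi * (G * θ * Gi) = G * (θ * (Gi * G) * θ) * Gi by simp only [mul_assoc], hGG, mul_one,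
      hsq₀, Matrix.mul_smul, mul_one, Matrix.smul_mul, Units.mul_inv]
  obtain ⟨h1, h2'⟩ := LinearIndependent.pair_iff.mp hli (α * α + c * (β * β) - c) (2 * (α * β)) (by
    simp only [add_mul, mul_add, Matrix.smul_mul, Matrix.mul_smul, one_mul, mul_one, hsq₀] at hsq
    linear_combination (norm := module) hsq)
  have hα : α = 0 := by
    rcases mul_eq_zero.mp ((mul_eq_zero.mp h2').resolve_left h2) with h | h
    · exact h
    · exact absurd ⟨α, by subst h; linear_combination -h1⟩ hc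
  have hβ : β * β = 1 := by
    subst hα
    have h : c * (β * β - 1) = 0 := by linear_combination h1
    exact sub_eq_zero.mp ((mul_eq_zero.mp h).resolve_left hc0)
  have hGθ : G * θ = β • (θ * G) := by
    rw [hα, zero_smul, zero_add] at hab
    have h := congrArg (· * G) hab
    simpa only [G, mul_assoc, Units.inv_mul, mul_one, Matrix.smul_mul] using h
  have hpow : ∀ k : ℕ, G ^ k * θ = β ^ k • (θ * G ^ k) := fun k => by
    induction k with
    | zero => simp
    | succ k ih =>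
      rw [pow_succ, mul_assoc, hGθ, Matrix.mul_smul, ← mul_assoc, ih, Matrix.smul_mul, smul_smul, ← pow_succ', mul_assoc]
  have hr' := hpow r
  rw [← Units.val_pow_eq_pow_val, hz] at hr'
  have hz0 : z ≠ 0 := fun h => by
    rw [h, zero_smul] at hz
    exact (Units.ne_zero (g ^ r)) hz
  have hβr : β ^ r = β := by
    obtain ⟨k, rfl⟩ := hr
    rw [pow_succ, pow_mul, pow_two, hβ, one_pow, one_mul]
  rw [hβr, Matrix.smul_mul, Matrix.mul_smul, one_mul, mul_one, smul_smul] at hr'
  have hθne : θ ≠ 0 := fun h => hθ1 0 (by rw [h, zero_smul])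
  have hβ1 : β = 1 := by
    have h := smul_left_injective F hθne hr'
    exact (mul_right_cancel₀ hz0 (by rw [one_mul]; exact h)).symm
  rw [hGθ, hβ1, one_smul]

section Transport

variable {V : Type*} [AddCommGroup V] [Module F V] [FiniteDimensional F V] {Q : QuadraticForm F V}

omit [Fintype ι] [DecidableEq ι] in
/-- The conjugate of a square root by an isometry. -/
theorem SField.conj {θ θ' : Module.End F V} {c : F} (A : SField Q θ c ⊤) (g : V → V)
    (hsurj : Function.Surjective g) (hg : ∀ u v, polar Q (g u) (g v) = polar Q u v)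
    (hsmul : ∀ (a : F) v, g (a • v) = a • g v) (h : ∀ v, θ' (g v) = g (θ v)) : SField Q θ' c ⊤ := by
  refine ⟨fun _ _ => trivial, fun u _ v _ => ?_, fun v _ => ?_⟩
  · obtain ⟨a, rfl⟩ := hsurj u
    obtain ⟨b, rfl⟩ := hsurj v
    rw [h, h, hg, hg]
    exact A.adj a trivial b trivial
  · obtain ⟨a, rfl⟩ := hsurj v
    rw [h, h, A.sq a trivial, hsmul]

end Transport

end CfsgLib.ExtOrth
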