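/-
Elements of odd prime order commuting with no self-adjoint quadratic field.
-/
import Cfsg.Agent.Lib.ExtOrth.Field
import Cfsg.Agent.Lib.OrthIso.SingBridge
import Cfsg.Agent.Lib.OrthIso.EvenOdd

set_option autoImplicit false
set_option linter.unusedSectionVars false
set_option maxHeartbeats 1000000

namespace CfsgLib.ExtOrth

open Module Polynomial QuadraticMap CfsgLib.PrimeIso CfsgLib.OrthIso CfsgLib.MaxSub.Elusive
open scoped Matrix MatrixGroups

universe u v

section General

variable {F : Type u} [Field F] [Fintype F] {V : Type v} [AddCommGroup V] [Module F V] [FiniteDimensional F V]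
  {Q : QuadraticForm F V} {T θ : Module.End F V} {c : F}

/-- Powers and polynomials of an isometry pass through the form by their reverses. -/
theorem polar_aeval {r : ℕ} (hr : 0 < r) (hiso : ∀ v, Q (T v) = Q v) (hper : T ^ r = 1) (P : F[X]) (x y : V) :
    polar Q (aeval T P x) y = polar Q x (aeval T (P.comp (X ^ (r - 1))) y) := by
  have hpol : ∀ a b, polar Q (T a) (T b) = polar Q a b := fun a b => by simp only [polar, ← map_add, hiso]
  have hpow : ∀ (n : ℕ) a b, polar Q ((T ^ n) a) ((T ^ n) b) = polar Q a b := fun n => by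
    induction n with
    | zero => intro a b; rfl
    | succ n ih => intro a b; rw [pow_succ', Module.End.mul_apply, Module.End.mul_apply, hpol, ih]
  induction P using Polynomial.induction_on' with
  | add f g hf hg => rw [add_comp, map_add, map_add, LinearMap.add_apply, LinearMap.add_apply, polar_add_left,
      polar_add_right, hf, hg]
  | monomial n a =>
    rw [monomial_comp, aeval_monomial, map_mul, aeval_C, map_pow, map_pow, aeval_X, Module.End.mul_apply,
      Module.End.mul_apply, Module.algebraMap_end_apply, Module.algebraMap_end_apply, polar_smul_left,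
      polar_smul_right, ← hpow n x (((T ^ (r - 1)) ^ n) y), ← Module.End.mul_apply, ← pow_mul, ← pow_add,
      show n + (r - 1) * n = r * n by
        obtain ⟨k, rfl⟩ : ∃ k, r = k + 1 := ⟨r - 1, by omega⟩
        rw [Nat.add_sub_cancel]; ring, pow_mul, hper, one_pow, Module.End.one_apply]

omit [Fintype F] in
/-- Commuting maps commute with polynomials. -/
theorem aeval_comm_of {U : Submodule F V} {ψ : Module.End F V} (hU : Inv T U)
    (hcomm : ∀ v ∈ U, T (ψ v) = ψ (T v)) (P : F[X]) : ∀ v ∈ U, aeval T P (ψ v) = ψ (aeval T P v) := by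
  induction P using Polynomial.induction_on' with
  | add f g hf hg => intro v hv; rw [map_add, LinearMap.add_apply, LinearMap.add_apply, hf v hv, hg v hv, map_add]
  | monomial n a =>
    intro v hv
    rw [aeval_monomial, Module.End.mul_apply, Module.End.mul_apply, Module.algebraMap_end_apply,
      Module.algebraMap_end_apply, map_smul]
    congr 1
    induction n with
    | zero => rfl
    | succ n ih =>
      rw [pow_succ', Module.End.mul_apply, Module.End.mul_apply, ih, hcomm _ (hU.pow n v hv)]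

/-- A square root of a non-square needs an even dimension. -/
theorem SField.even_dim {U : Submodule F V} (hsq : ∀ v ∈ U, θ (θ v) = c • v) (hI : Inv θ U) (hc : ¬ IsSquare c) :
    Even (finrank F U) := by
  classical
  have hc0 : c ≠ 0 := fun h => hc (h ▸ IsSquare.zero)
  let S : U →ₗ[F] U := θ.restrict hI
  have hS : S * S = c • 1 := LinearMap.ext fun v => Subtype.ext (by
    show θ (θ (v : V)) = c • (v : V)
    exact hsq _ v.2)
  have hdet := congrArg LinearMap.det hS
  rw [map_mul, LinearMap.det_smul, map_one, mul_one] at hdet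
  rcases Nat.even_or_odd (finrank F U) with h | ⟨k, hk⟩
  · exact h
  · exfalso
    rw [hk] at hdet
    refine hc ⟨LinearMap.det S / c ^ k, ?_⟩
    field_simp
    rw [pow_two (LinearMap.det S), hdet]
    ring

/-- A polynomial killing a non-zero vector has an irreducible factor with a kernel in the same subspace. -/
theorem exists_factor_ker {U : Submodule F V} (hU : Inv T U) (P : F[X]) : P ≠ 0 → ∀ v ∈ U, v ≠ 0 → aeval T P v = 0 →
    ∃ g : F[X], Irreducible g ∧ g.Monic ∧ g ∣ P ∧ ∃ w ∈ U, w ≠ 0 ∧ aeval T g w = 0 := by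
  classical
  induction P using UniqueFactorizationMonoid.induction_on_prime with
  | h₁ => intro h; exact absurd rfl h
  | h₂ x hx =>
    intro _ v _ hv0 h0
    obtain ⟨k, hk, rfl⟩ := Polynomial.isUnit_iff.mp hx
    rw [aeval_C, Module.algebraMap_end_apply] at h0
    exact absurd h0 (smul_ne_zero hk.ne_zero hv0)
  | h₃ a q ha hq ih =>
    intro _ v hv hv0 h0
    by_cases h1 : aeval T a v = 0
    · obtain ⟨g, hgi, hgm, hgd, hw⟩ := ih ha v hv hv0 h1
      exact ⟨g, hgi, hgm, Dvd.dvd.mul_left hgd q, hw⟩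
    · refine ⟨normalize q, (associated_normalize q).irreducible hq.irreducible, Polynomial.monic_normalize hq.ne_zero,
        Dvd.dvd.mul_right (normalize_associated q).dvd a, _, hU.aeval a v hv, h1, ?_⟩
      obtain ⟨s, hs⟩ := (associated_normalize q).dvd
      rw [hs, ← Module.End.mul_apply, ← map_mul, show q * s * a = s * (q * a) by ring, map_mul, Module.End.mul_apply, h0,
        map_zero]

/-- The value of a square root at a conjugate root. -/
theorem root_conj {p r h : ℕ} [Fact p.Prime] [CharP F p] [Fact r.Prime] (hrp : r ≠ p)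
    (hi : orderOf (Fintype.card F : ZMod r) = 2 * h) (hc : ¬ IsSquare c) (h2 : (2 : F) ≠ 0) {g : F[X]}
    [Fact (Irreducible g)] (hg : g ∣ geom F r) {P : F[X]} (hP : g ∣ P * P - C c) :
    aeval (AdjoinRoot.root g) (P.comp (X ^ (r - 1))) = (-1) ^ h * aeval (AdjoinRoot.root g) P := by
  set a := AdjoinRoot.root g
  obtain ⟨har, -⟩ := root_facts (p := p) hrp hg (Fact.out : Irreducible g)
  have hah : a ^ Fintype.card F ^ h = a ^ (r - 1) := by
    obtain ⟨k, hk⟩ := half_pow (F := F) (p := p) (r := r) hrp hi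
    have ha0 : a ≠ 0 := fun e => by
      rw [show AdjoinRoot.root g = a from rfl, e, zero_pow (Fact.out : r.Prime).ne_zero] at har
      exact zero_ne_one har
    refine mul_right_cancel₀ ha0 ?_
    rw [← pow_succ, ← pow_succ, hk, pow_mul, har, one_pow, Nat.sub_add_cancel (Fact.out : r.Prime).one_le, har]
  rw [aeval_comp, map_pow, aeval_X, ← hah, aeval_pow_card]
  set π := aeval a P
  have hπ : π * π = algebraMap F (AdjoinRoot g) c := by
    rw [← sub_eq_zero, ← map_mul, ← aeval_C a, ← map_sub, AdjoinRoot.aeval_eq, AdjoinRoot.mk_eq_zero]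
    exact hP
  have hF : ringChar F ≠ 2 := fun e => h2 (by haveI := ringChar.of_eq e; exact CharTwo.two_eq_zero)
  have hq : π ^ Fintype.card F = -π := by
    obtain ⟨l, hl⟩ : ∃ l, Fintype.card F = 2 * l + 1 :=
      ⟨Fintype.card F / 2, by have := FiniteField.odd_card_of_char_ne_two hF; omega⟩
    have hc0 : c ≠ 0 := fun e => hc (e ▸ IsSquare.zero)
    have hcl : c ^ l = -1 := by
      rw [show l = Fintype.card F / 2 by omega]
      exact (FiniteField.pow_dichotomy hF hc0).resolve_left fun e => hc ((FiniteField.isSquare_iff hF hc0).mpr e)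
    rw [hl, pow_succ, pow_mul, pow_two, hπ, ← map_pow, hcl, map_neg, map_one, neg_one_mul]
  clear_value π
  induction h generalizing π with
  | zero => simp
  | succ m ih =>
    clear ih
    have key : ∀ n : ℕ, π ^ Fintype.card F ^ n = (-1) ^ n * π := fun n => by
      induction n with
      | zero => simp
      | succ n ih =>
        rw [pow_succ, pow_mul, ih, mul_pow, hq, ← pow_mul, mul_comm n, pow_mul,
          (Nat.odd_iff.mpr (FiniteField.odd_card_of_char_ne_two hF)).neg_one_pow, pow_succ]
        ring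
    exact key _

/-- No square root commutes with a single moved block outside the range `4 ∣ i`. -/
theorem no_commuting {p r : ℕ} [Fact p.Prime] [CharP F p] [Fact r.Prime] (hrp : r ≠ p) (hr2 : r ≠ 2)
    (h2 : (2 : F) ≠ 0) (hQ : ND (polarBilin Q) (⊤ : Submodule F V)) {i cb : ℕ}
    (hi : i = orderOf (Fintype.card F : ZMod r)) (hcb : cb = if Even i then i else 2 * i) (h4 : ¬ 4 ∣ i)
    (hiso : ∀ v, Q (T v) = Q v) (hper : T ^ r = 1) (hdim : finrank F (LinearMap.ker (aeval T (geom F r))) = cb)
    (hc : ¬ IsSquare c) (A : SField Q θ c ⊤) (hcomm : ∀ v, T (θ v) = θ (T v)) : False := by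
  have hipos : 0 < i := hi ▸ order_pos (F := F) (p := p) (r := r) hrp
  have h := perIso_of hrp hiso hper
  obtain ⟨-, hRn, -⟩ := nd_parts h (inv_top (T := T)) hQ
  rw [top_inf_eq] at hRn
  set R := LinearMap.ker (aeval T (geom F r))
  obtain ⟨v, hv, hv0⟩ := Submodule.exists_mem_ne_zero_of_ne_bot (p := R) fun e => by
    rw [e, finrank_bot] at hdim; rw [← hdim] at hcb; split_ifs at hcb <;> omega
  have hRT : Inv T R := inv_ker _
  obtain ⟨g, hgi, hgm, hgd, w, hw, hw0, hgw⟩ := exists_factor_ker hRT (geom F r)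
    (geom_monic (Fact.out : r.Prime).pos).ne_zero v hv hv0 (LinearMap.mem_ker.mp hv)
  have hdeg : g.natDegree = i := hi ▸ geom_degree (p := p) (Fact.out : r.Prime) hrp hgi hgm hgd
  set X₀ := LinearMap.ker (aeval T g)
  have hXR : X₀ ≤ R := fun x hx => by
    obtain ⟨s, hs⟩ := hgd
    rw [LinearMap.mem_ker] at hx ⊢
    rw [hs, mul_comm, map_mul, Module.End.mul_apply, hx, map_zero]
  have hcA : ∀ P : F[X], ∀ v, aeval T P (θ v) = θ (aeval T P v) := fun P v =>
    aeval_comm_of inv_top (fun v _ => hcomm v) P v trivial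
  have hXθ : Inv θ X₀ := fun x hx => by
    rw [LinearMap.mem_ker] at hx ⊢
    rw [hcA, hx, map_zero]
  have hXev := SField.even_dim (fun v _ => A.sq v trivial) hXθ hc
  obtain ⟨hXdvd, -⟩ := dims_of_ker (P := g) (i := i) (fun g' h1 h2' h3 => by
    rw [← hdeg]; exact natDegree_eq_of_degree_eq (degree_eq_degree_of_associated (h1.associated_of_dvd hgi h3)))
    (inv_ker (T := T) g) le_rfl
  have hXpos : 0 < finrank F X₀ := Nat.pos_of_ne_zero fun e => hw0 (by
    have := Submodule.finrank_eq_zero.mp e
    exact (Submodule.mem_bot F).mp (this ▸ (LinearMap.mem_ker.mpr hgw : w ∈ X₀)))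
  have hge := Nat.le_of_dvd hXpos hXdvd
  rcases Nat.even_or_odd i with he | ho
  · rw [if_pos he] at hcb
    rw [hcb] at hdim
    have hXeq : X₀ = R := Submodule.eq_of_le_of_finrank_eq hXR (le_antisymm (Submodule.finrank_mono hXR) (hdim ▸ hge))
    obtain ⟨hh, hhh⟩ := he
    have hh' : Odd hh := Nat.not_even_iff_odd.mp fun ⟨k, hk⟩ => h4 ⟨k, by omega⟩
    -- the cyclic subspace of `w`
    have : Fact (Irreducible g) := ⟨hgi⟩
    let L : F[X] →ₗ[F] V :=
      { toFun := fun P => aeval T P w
        map_add' := fun a b => by rw [map_add, LinearMap.add_apply]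
        map_smul' := fun a b => by rw [map_smul, LinearMap.smul_apply]; rfl }
    let L' : Polynomial.degreeLT F i →ₗ[F] V := L.comp (Polynomial.degreeLT F i).subtype
    have hkey : ∀ P : F[X], aeval T P w = 0 → g ∣ P := fun P hP => by
      by_contra hnd
      obtain ⟨a, b, hab⟩ := hgi.coprime_iff_not_dvd.mpr hnd
      have h1 := congrArg (fun f => aeval T f w) hab
      simp only [map_add, map_mul, map_one, LinearMap.add_apply, Module.End.mul_apply, Module.End.one_apply, hP,
        hgw, map_zero, zero_add] at h1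
      exact hw0 h1.symm
    have hwX : w ∈ X₀ := LinearMap.mem_ker.mpr hgw
    have hrange : LinearMap.range L' = X₀ := by
      refine Submodule.eq_of_le_of_finrank_le ?_ ?_
      · rintro _ ⟨P, rfl⟩
        exact (inv_ker (T := T) g).aeval P.1 w hwX
      · have hinj : Function.Injective L' := (injective_iff_map_eq_zero L').mpr fun P hP => by
          refine Subtype.ext (Polynomial.eq_zero_of_dvd_of_degree_lt (hkey P.1 hP) ?_)
          rw [Polynomial.degree_eq_natDegree hgm.ne_zero, hdeg]
          exact Polynomial.mem_degreeLT.mp P.2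
        rw [LinearMap.finrank_range_of_inj hinj, (Polynomial.degreeLTEquiv F i).finrank_eq,
          Module.finrank_fintype_fun_eq_card, Fintype.card_fin, hXeq, hdim]
    obtain ⟨⟨P, hPm⟩, hP⟩ := hrange.ge (hXθ w hwX)
    have hP' : aeval T P w = θ w := hP
    have hPP : g ∣ P * P - C c := hkey _ (by
      rw [map_sub, LinearMap.sub_apply, map_mul, Module.End.mul_apply, hP', hcA, hP', A.sq w trivial, aeval_C,
        Module.algebraMap_end_apply, sub_self])
    have hθP : ∀ y ∈ X₀, θ y = aeval T P y := fun y hy => by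
      obtain ⟨⟨S, hSm⟩, hS⟩ := hrange.ge hy
      rw [← hS]
      show θ (aeval T S w) = aeval T P (aeval T S w)
      rw [← hcA, ← hP', ← Module.End.mul_apply, ← Module.End.mul_apply, ← map_mul, ← map_mul, mul_comm]
    have hadj : ∀ y ∈ R, aeval T (P.comp (X ^ (r - 1))) y = θ y := fun y hy => by
      have hI : aeval T (P.comp (X ^ (r - 1))) y ∈ R := hRT.aeval _ y hy
      refine sub_eq_zero.mp (hRn _ (sub_mem hI (hXeq ▸ hXθ y (hXeq.symm ▸ hy))) fun x hx => ?_)
      show polar Q _ x = 0
      rw [polar_comm, sub_eq_add_neg, polar_add_right, polar_neg_right,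
        ← polar_aeval (Fact.out : r.Prime).pos hiso hper, ← hθP x (hXeq.symm ▸ hx), A.adj x trivial y trivial,
        add_neg_cancel]
    have hdiff : g ∣ P.comp (X ^ (r - 1)) - P := hkey _ (by
      rw [map_sub, LinearMap.sub_apply, hadj w (hXR hwX), hP', sub_self])
    have hE := root_conj (p := p) hrp (h := hh) (by rw [← hi]; omega) hc h2 hgd hPP
    rw [← AdjoinRoot.mk_eq_zero, ← AdjoinRoot.aeval_eq, map_sub, hE, hh'.neg_one_pow, neg_one_mul] at hdiff
    set π := aeval (AdjoinRoot.root g) P with hπdef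
    have h2E : (2 : AdjoinRoot g) ≠ 0 := fun e => h2 ((algebraMap F (AdjoinRoot g)).injective (by
      rw [map_ofNat, e, map_zero]))
    have hπ0 : π = 0 := (mul_eq_zero.mp (show (2 : AdjoinRoot g) * π = 0 by linear_combination -hdiff)).resolve_left h2E
    rw [hπdef, AdjoinRoot.aeval_eq, AdjoinRoot.mk_eq_zero] at hπ0
    have : g ∣ C c := by simpa using dvd_sub (hπ0.mul_right P) hPP
    exact hgi.not_isUnit (isUnit_of_dvd_unit this (Polynomial.isUnit_C.mpr (c_ne_zero hc).isUnit))
  · rw [if_neg (Nat.not_even_iff_odd.mpr ho)] at hcb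
    have hts : ∀ x ∈ X₀, ∀ y ∈ X₀, polarBilin Q x y = 0 := fun x hx y hy =>
      ker_ts_odd h hgi (not_dvd_reverse (p := p) hrp hr2 hgi hgm hgd (hdeg.symm ▸ ho)) (LinearMap.mem_ker.mp hx)
        (LinearMap.mem_ker.mp hy)
    have hle : 2 * finrank F X₀ ≤ finrank F R := PrimeIso.two_mul_finrank_le hXR hts hRn
    have hXd : finrank F X₀ = i := by omega
    rw [hXd] at hXev
    exact Nat.not_even_iff_odd.mpr ho hXev

end General

section Coord

variable {F : Type u} [Field F] [Fintype F] {ι : Type} [Fintype ι] [DecidableEq ι] (Q : QuadraticForm F (ι → F))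

/-- A map commuting with no square root gives a witness. -/
theorem bad_of (h2 : (2 : F) ≠ 0) (hQ : ND (polarBilin Q) (⊤ : Submodule F (ι → F)))
    (hn : 5 ≤ Fintype.card ι) {K : Subalgebra F (Matrix ι ι F)} {Θ : Matrix ι ι F} {c : F}
    (hc : ¬ IsSquare c) (A₀ : SField Q (Matrix.toLin' Θ) c ⊤) (hΘ : Θ ∈ K)
    (hspan : ∀ k ∈ K, ∃ α β : F, k = α • 1 + β • Θ) {r : ℕ} (hr : Odd r) (T : Module.End F (ι → F))
    (hT : ∀ v, Q (T v) = Q v) (hTr : T ^ r = 1) (hT1 : T ≠ 1)
    (hkey : ∀ θ : Module.End F (ι → F), SField Q θ c ⊤ → (∀ v, T (θ v) = θ (T v)) → False) :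
    ∃ x ∈ Cfsg.Geo.omegaGL ⇑Q, (∃ z : F, ((x ^ r : GL ι F) : Matrix ι ι F) = z • 1) ∧
      (∀ z : F, (x : Matrix ι ι F) ≠ z • 1) ∧
      ∀ g ∈ Cfsg.Geo.omegaGL ⇑Q, g⁻¹ * x * g ∉ Cfsg.Geo.subalgebraNormalizer K := by
  have hne : Nonempty ι := Fintype.card_pos_iff.mp (by omega)
  have hsq₀ : Θ * Θ = c • 1 := Matrix.toLin'.injective (LinearMap.ext fun v => by
    rw [Matrix.toLin'_mul, LinearMap.comp_apply, A₀.sq v trivial, map_smul, Matrix.toLin'_one]
    rfl)
  have hr0 : 0 < r := hr.pos
  obtain ⟨x, rfl, hxr⟩ := exists_gl T hr0 hTr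
  obtain ⟨g₀, -, hg₀⟩ := exists_aniso hQ fun e => by
    have := finrank_top F (ι → F)
    rw [e, finrank_bot, Module.finrank_fintype_fun_eq_card] at this; omega
  have hns : ∀ z : F, (x : Matrix ι ι F) ≠ z • 1 := fun z hz => hT1 (by
    have e : Matrix.toLin' (x : Matrix ι ι F) = z • (1 : Module.End F (ι → F)) := by
      rw [hz, map_smul, Matrix.toLin'_one]; try rfl
    have hzz := scalar_sq (Q := Q) hg₀ (z := z) (by
      have := hT g₀
      rwa [e, LinearMap.smul_apply, Module.End.one_apply] at this)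
    have hzr : z ^ r = 1 := by
      have := LinearMap.congr_fun hTr g₀
      rw [e, _root_.smul_pow, one_pow, LinearMap.smul_apply, Module.End.one_apply] at this
      exact smul_left_injective F (fun e0 : g₀ = 0 => hg₀ (by rw [e0, QuadraticMap.map_zero]))
        (this.trans (one_smul F g₀).symm)
    obtain ⟨l, hl⟩ := hr
    have hz1 : z = 1 := by rwa [hl, pow_succ, pow_mul, pow_two, hzz, one_pow, one_mul] at hzr
    rw [e, hz1, one_smul])
  refine ⟨x, mem_omega_odd Q (nondeg_of hQ) (by omega) (fun u _ => by simpa using hT u) hr hxr,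
    ⟨1, by rw [hxr, Units.val_one, one_smul]⟩, hns, fun g hg hmem => ?_⟩
  have hco := commute_of_mem h2 hc hsq₀ hΘ hspan hmem hr (z := 1) (by
    rw [show (g⁻¹ * x * g) ^ r = g⁻¹ * x ^ r * g by simpa using conj_pow (a := g⁻¹) (b := x) (i := r), hxr,
      mul_one, inv_mul_cancel, Units.val_one, one_smul])
  set G := (g : Matrix ι ι F)
  set Gi := ((g⁻¹ : GL ι F) : Matrix ι ι F)
  have hGG : G * Gi = 1 := Units.mul_inv _
  have hGG' : Gi * G = 1 := Units.inv_mul _
  refine hkey (Matrix.toLin' (G * Θ * Gi)) (A₀.conj (fun v => G *ᵥ v) (fun v => ⟨Gi *ᵥ v, by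
    show G *ᵥ (Gi *ᵥ v) = v
    rw [Matrix.mulVec_mulVec, hGG, Matrix.one_mulVec]⟩) (fun u v => ?_) (fun a v => Matrix.mulVec_smul G a v)
    fun v => ?_) fun v => ?_
  · show polar Q (G *ᵥ u) (G *ᵥ v) = polar Q u v
    simp only [polar, ← Matrix.mulVec_add, G, omegaGL_le hg]
  · simp only [Matrix.toLin'_apply, Matrix.mulVec_mulVec, mul_assoc, hGG', mul_one]
  · simp only [Matrix.toLin'_apply, Matrix.mulVec_mulVec]
    congr 1
    have h : Gi * (x : Matrix ι ι F) * G * Θ = Θ * (Gi * (x : Matrix ι ι F) * G) := hco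
    calc (x : Matrix ι ι F) * (G * Θ * Gi) = G * (Gi * (x : Matrix ι ι F) * G * Θ) * Gi := by
          simp only [← mul_assoc, hGG, one_mul]
      _ = G * (Θ * (Gi * (x : Matrix ι ι F) * G)) * Gi := by rw [h]
      _ = G * Θ * Gi * (x : Matrix ι ι F) := by
          rw [show G * (Θ * (Gi * (x : Matrix ι ι F) * G)) * Gi = G * Θ * Gi * (x : Matrix ι ι F) * (G * Gi) by
            simp only [mul_assoc], hGG, mul_one]

end Coord

section Unipotent

variable {F : Type u} [Field F] [Fintype F] {V : Type v} [AddCommGroup V] [Module F V] [FiniteDimensional F V]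
  {Q : QuadraticForm F V} {p : ℕ} [Fact p.Prime] [CharP F p]

/-- A unipotent element commuting with no square root. -/
theorem exists_unipotent_bad (hp2 : p ≠ 2) (hQ : ND (polarBilin Q) (⊤ : Submodule F V)) {d : ℕ}
    (hn : finrank F V = 2 * d) (hd : 2 ≤ d) {c : F} (hc : ¬ IsSquare c) :
    ∃ T : Module.End F V, (∀ v, Q (T v) = Q v) ∧ T ^ p = 1 ∧ T ≠ 1 ∧
      ∀ θ : Module.End F V, SField Q θ c ⊤ → (∀ v, T (θ v) = θ (T v)) → False := by
  have h2 := two_ne (F := F) hp2
  obtain ⟨L, -, hLd, hLts⟩ := exists_ts_in (Q := Q) hQ (b := 1) (Or.inl (by rw [finrank_top, hn]; omega))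
  obtain ⟨u, huL, hu0⟩ := Submodule.exists_mem_ne_zero_of_ne_bot (p := L) fun e => by
    rw [e, finrank_bot] at hLd; omega
  have hQu : Q u = 0 := hLts u huL
  set W := perpIn (polarBilin Q) (Submodule.span F {u}) ⊤
  have hWd := finrank_perp_top hQ (Submodule.span F {u})
  rw [finrank_span_singleton hu0, hn] at hWd
  change 1 + finrank F W = 2 * d at hWd
  obtain ⟨w, hw, hQw⟩ : ∃ w ∈ W, Q w ≠ 0 := by
    by_contra hno
    push Not at hno
    have := two_mul_plus_le hQ (le_top (a := W)) hno
    rw [finrank_top, hn] at this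
    omega
  have huw : polar Q u w = 0 := hw.2 u (Submodule.mem_span_singleton_self u)
  obtain ⟨y₀, hy₀⟩ : ∃ y, polar Q u y ≠ 0 := by
    by_contra hno
    push Not at hno
    exact hu0 (hQ u trivial fun y _ => hno y)
  let f : F → Module.End F V := fun t => 1 +
    (((t • polarBilin Q w : V →ₗ[F] F) - (t * t * Q w) • polarBilin Q u).smulRight u -
      (t • polarBilin Q u : V →ₗ[F] F).smulRight w)
  have hf : ∀ t y, f t y = y + (t * polar Q w y - t * t * Q w * polar Q u y) • u - (t * polar Q u y) • w :=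
    fun t y => by
      simp only [f, LinearMap.add_apply, LinearMap.sub_apply, LinearMap.smulRight_apply, LinearMap.smul_apply,
        Module.End.one_apply, polarBilin_apply_apply, smul_eq_mul]
      abel
  have huu : polar Q u u = 0 := by rw [polar_self, hQu, nsmul_eq_mul, mul_zero]
  have hww : polar Q w w = 2 * Q w := by rw [polar_self, nsmul_eq_mul, Nat.cast_ofNat]
  have hwu : polar Q w u = 0 := (polar_comm Q w u).trans huw
  have hadd : ∀ s t, f s * f t = f (s + t) := fun s t => LinearMap.ext fun y => by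
    rw [Module.End.mul_apply]
    simp only [hf, polar_add_right, sub_eq_add_neg, polar_neg_right, polar_smul_right, huu, huw, hwu, hww,
      smul_eq_mul]
    module
  have hpow : ∀ n : ℕ, f 1 ^ n = f n := fun n => by
    induction n with
    | zero =>
      refine LinearMap.ext fun y => ?_
      rw [pow_zero, Module.End.one_apply, hf, Nat.cast_zero]
      simp
    | succ n ih => rw [pow_succ, ih, hadd, Nat.cast_succ]
  have hsq : ∀ y, (f 1 - 1) ((f 1 - 1) y) = (-(2 * Q w * polar Q u y)) • u := fun y => by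
    simp only [LinearMap.sub_apply, Module.End.one_apply, hf, one_mul]
    simp only [map_sub, map_add, map_smul, sub_eq_add_neg,
      polar_add_right, polar_neg_right, polar_smul_right, huu, huw, hwu, hww, smul_eq_mul]
    module
  have hk0 : -(2 * Q w * polar Q u y₀) ≠ 0 := neg_ne_zero.mpr (mul_ne_zero (mul_ne_zero h2 hQw) hy₀)
  refine ⟨f 1, fun y => ?_, ?_, fun e => ?_, fun θ A hcomm => ?_⟩
  · rw [hf]
    simp only [sub_eq_add_neg, ← neg_smul, q_add, QuadraticMap.map_smul, polar_add_left, polar_smul_left,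
      polar_smul_right, hQu, huw, polar_comm Q y u, polar_comm Q y w, smul_eq_mul]
    ring
  · refine (hpow p).trans (LinearMap.ext fun y => ?_)
    rw [hf, CharP.cast_eq_zero, Module.End.one_apply]
    simp
  · have := hsq y₀
    rw [e, sub_self, LinearMap.zero_apply] at this
    exact smul_ne_zero hk0 hu0 this.symm
  · have h1 : ∀ y, θ ((f 1 - 1) y) = (f 1 - 1) (θ y) := fun y => by
      rw [LinearMap.sub_apply, LinearMap.sub_apply, Module.End.one_apply, Module.End.one_apply, map_sub, hcomm]
    have h3 : ∀ y, (-(2 * Q w * polar Q u y)) • θ u = (-(2 * Q w * polar Q u (θ y))) • u := fun y => by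
      rw [← hsq (θ y), ← h1, ← h1, hsq, map_smul]
    have h4 : θ u = ((-(2 * Q w * polar Q u y₀))⁻¹ * -(2 * Q w * polar Q u (θ y₀))) • u := by
      rw [← smul_smul, ← h3, inv_smul_smul₀ hk0]
    set l := (-(2 * Q w * polar Q u y₀))⁻¹ * -(2 * Q w * polar Q u (θ y₀))
    have h5 := A.sq u trivial
    rw [h4, map_smul, h4, smul_smul] at h5
    exact hc ⟨l, (smul_left_injective F hu0 h5).symm⟩

end Unipotent

end CfsgLib.ExtOrth
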