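/-
Sylow subgroups normalising a self-adjoint quadratic field.
-/
import Cfsg.Agent.Lib.ExtOrth.Bad
import Mathlib.GroupTheory.PGroup

set_option autoImplicit false
set_option linter.unusedSectionVars false
set_option maxHeartbeats 1000000

namespace CfsgLib.ExtOrth

open Module Polynomial QuadraticMap CfsgLib.PrimeIso CfsgLib.OrthIso CfsgLib.MaxSub.Elusive
open scoped Matrix MatrixGroups

universe u v

section General

variable {F : Type u} [Field F] [Fintype F] {V : Type v} [AddCommGroup V] [Module F V] [FiniteDimensional F V]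
  {Q : QuadraticForm F V} {p r : ℕ} [Fact p.Prime] [CharP F p] [Fact r.Prime]

/-- A square root on one component which is a polynomial in the element. -/
theorem exists_poly_root (hrp : r ≠ p) (h2 : (2 : F) ≠ 0) {c : F} (hc : ¬ IsSquare c) {h : ℕ} (hh : Even h)
    (hi : orderOf (Fintype.card F : ZMod r) = 2 * h) {g : F[X]} (hgi : Irreducible g) (hgm : g.Monic)
    (hgd : g ∣ geom F r) : ∃ P : F[X], g ∣ P * P - C c ∧ g ∣ P.comp (X ^ (r - 1)) - P := by
  have hdeg : g.natDegree = 2 * h := hi ▸ geom_degree (p := p) (Fact.out : r.Prime) hrp hgi hgm hgd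
  have : Fact (Irreducible g) := ⟨hgi⟩
  have : FiniteDimensional F (AdjoinRoot g) := (AdjoinRoot.powerBasis hgi.ne_zero).finite
  have : Finite (AdjoinRoot g) := Module.finite_of_finite F
  let _ : Fintype (AdjoinRoot g) := Fintype.ofFinite _
  have hcard : Fintype.card (AdjoinRoot g) = Fintype.card F ^ (2 * h) := by
    rw [Module.card_eq_pow_finrank (K := F), (AdjoinRoot.powerBasis hgi.ne_zero).finrank,
      AdjoinRoot.powerBasis_dim, hdeg]
  have hF : ringChar F ≠ 2 := fun e => h2 (by haveI := ringChar.of_eq e; exact CharTwo.two_eq_zero)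
  have hFodd := FiniteField.odd_card_of_char_ne_two hF
  obtain ⟨π, hπ⟩ : IsSquare (algebraMap F (AdjoinRoot g) c) := by
    have : CharP (AdjoinRoot g) p := charP_of_injective_algebraMap (algebraMap F (AdjoinRoot g)).injective p
    have hEc : ringChar (AdjoinRoot g) ≠ 2 := by
      rw [ringChar.eq (AdjoinRoot g) p, ← ringChar.eq F p]; exact hF
    rw [FiniteField.isSquare_iff hEc ((_root_.map_ne_zero _).mpr (c_ne_zero hc)), hcard]
    obtain ⟨l, hl⟩ : ∃ l, Fintype.card F = 2 * l + 1 := ⟨Fintype.card F / 2, by omega⟩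
    have hcl : c ^ l = -1 := by
      rw [show l = Fintype.card F / 2 by omega]
      exact (FiniteField.pow_dichotomy hF (c_ne_zero hc)).resolve_left
        fun e => hc ((FiniteField.isSquare_iff hF (c_ne_zero hc)).mpr e)
    obtain ⟨S, hS, hS'⟩ : ∃ S, Even S ∧ Fintype.card F ^ (2 * h) / 2 = l * S := by
      refine ⟨∑ j ∈ Finset.range (2 * h), Fintype.card F ^ j, ?_, ?_⟩
      · rw [Nat.even_iff, Finset.sum_nat_mod]
        simp [Nat.pow_mod, hFodd]
      · have := geom_sum_mul_add (2 * l) (2 * h)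
        rw [← hl] at this
        rw [← this, show (∑ j ∈ Finset.range (2 * h), Fintype.card F ^ j) * (2 * l) + 1 =
          1 + 2 * (l * ∑ j ∈ Finset.range (2 * h), Fintype.card F ^ j) by ring]
        omega
    rw [hS', pow_mul, ← map_pow, hcl, map_neg, map_one, hS.neg_one_pow]
  obtain ⟨P, hP⟩ := AdjoinRoot.mk_surjective (g := g) π
  have hPP : g ∣ P * P - C c := by
    rw [← AdjoinRoot.mk_eq_zero, map_sub, map_mul, hP, ← hπ, AdjoinRoot.mk_C, sub_eq_zero]
    rfl
  refine ⟨P, hPP, ?_⟩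
  rw [← AdjoinRoot.mk_eq_zero, ← AdjoinRoot.aeval_eq, map_sub, root_conj (p := p) hrp hi hc h2 hgd hPP,
    hh.neg_one_pow, one_mul, sub_self]

/-- An `r`-group of isometries commutes with a square root when `4 ∣ i`. -/
theorem exists_commuting (hrp : r ≠ p) (hr2 : r ≠ 2) (h2 : (2 : F) ≠ 0)
    (hQ : ND (polarBilin Q) (⊤ : Submodule F V)) {h : ℕ} (hh : Even h)
    (hi : orderOf (Fintype.card F : ZMod r) = 2 * h) {c : F} (hc : ¬ IsSquare c)
    {G : Type*} [Group G] [Finite G] (hG : IsPGroup r G) (ρ : G →* Module.End F V)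
    (hρ : ∀ g v, Q (ρ g v) = Q v) : ∀ (n : ℕ) (U : Submodule F V), finrank F U ≤ n → ND (polarBilin Q) U →
      Even (finrank F U) → (∀ g, Inv (ρ g) U) →
      ∃ θ : Module.End F V, SField Q θ c U ∧ ∀ g, ∀ u ∈ U, θ (ρ g u) = ρ g (θ u) := by
  classical
  intro n
  induction n using Nat.strong_induction_on with
  | _ n ih =>
    intro U hUn' hUn hUe hinv
    have hinvinv : ∀ g v, ρ g (ρ g⁻¹ v) = v := fun g v => by
      rw [← Module.End.mul_apply, ← map_mul, mul_inv_cancel, map_one, Module.End.one_apply]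
    let N : Subgroup G :=
      { carrier := {g | ∀ u ∈ U, ρ g u = u}
        one_mem' := fun u _ => by rw [map_one, Module.End.one_apply]
        mul_mem' := fun {a b} ha hb u hu => by rw [map_mul, Module.End.mul_apply, hb u hu, ha u hu]
        inv_mem' := fun {a} ha u hu => by
          have := hinvinv a⁻¹ u
          rwa [inv_inv, ha u hu] at this }
    have hNn : N.Normal := ⟨fun a ha b u hu => by
      rw [map_mul, map_mul, Module.End.mul_apply, Module.End.mul_apply, ha _ (hinv _ u hu), hinvinv]⟩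
    by_cases htriv : ∀ g, g ∈ N
    · obtain ⟨e, he⟩ := hUe
      obtain ⟨θ, A⟩ := exists_root h2 hQ c e U hUn (by omega)
      exact ⟨θ, A, fun g u hu => by rw [htriv g u hu, htriv g _ (A.maps u hu)]⟩
    push Not at htriv
    obtain ⟨g₁, hg₁⟩ := htriv
    have : Nontrivial (G ⧸ N) := ⟨⟨(g₁ : G ⧸ N), 1, fun e => hg₁ ((QuotientGroup.eq_one_iff g₁).mp e)⟩⟩
    have hGN : IsPGroup r (G ⧸ N) := hG.to_quotient N
    have := hGN.center_nontrivial
    obtain ⟨⟨zb, hzc⟩, hzord⟩ := exists_prime_orderOf_dvd_card' (G := Subgroup.center (G ⧸ N)) r (by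
      obtain ⟨k, hk⟩ := IsPGroup.iff_card.mp (hGN.to_subgroup (Subgroup.center (G ⧸ N)))
      rw [hk]
      refine dvd_pow_self r fun e => ?_
      rw [e, pow_zero] at hk
      exact absurd hk (Finite.one_lt_card).ne')
    obtain ⟨z, rfl⟩ := QuotientGroup.mk_surjective zb
    have hzN : z ∉ N := fun hz => by
      have he : (z : G ⧸ N) = 1 := (QuotientGroup.eq_one_iff z).mpr hz
      rw [← Subgroup.orderOf_coe, Subgroup.coe_mk, he, orderOf_one] at hzord
      exact (Fact.out : r.Prime).one_lt.ne hzord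
    have hzr : z ^ r ∈ N := by
      rw [← QuotientGroup.eq_one_iff, QuotientGroup.mk_pow, ← hzord, ← Subgroup.orderOf_coe]
      exact pow_orderOf_eq_one _
    have hzcomm : ∀ g, ∀ u ∈ U, ρ z (ρ g u) = ρ g (ρ z u) := fun g u hu => by
      have h1 := (Subgroup.mem_center_iff.mp hzc (g : G ⧸ N))
      rw [← QuotientGroup.mk_mul, ← QuotientGroup.mk_mul, QuotientGroup.eq] at h1
      have h3 := congrArg (ρ (g * z)) (h1 u hu)
      rw [← Module.End.mul_apply, ← map_mul, mul_inv_cancel_left, map_mul, map_mul, Module.End.mul_apply,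
        Module.End.mul_apply] at h3
      exact h3
    -- the central element on `U`
    obtain ⟨T, hTU, hTP⟩ := exists_glue hUn hQ (ρ z) 1
    obtain ⟨hPn, -, hsup, -⟩ := split_perpIn refl_bilin (le_top (a := U)) hUn hQ
    set W := perpIn (polarBilin Q) U ⊤
    have hiso : ∀ v, Q (T v) = Q v := fun v => by
      obtain ⟨a, ha, b, hb, rfl⟩ := Submodule.mem_sup.mp (hsup.ge (Submodule.mem_top (x := v)))
      rw [map_add, hTU a ha, hTP b hb.2, Module.End.one_apply, q_add, q_add, hρ,
        show polar Q a b = 0 from hb.2 a ha, show polar Q (ρ z a) b = 0 from hb.2 _ (hinv z a ha)]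
    have hTUn : ∀ k : ℕ, ∀ u ∈ U, (T ^ k) u = ρ (z ^ k) u := fun k => by
      induction k with
      | zero => intro u _; rw [pow_zero, pow_zero, map_one]
      | succ k ih =>
        intro u hu
        rw [pow_succ', pow_succ', Module.End.mul_apply, ih u hu, map_mul, Module.End.mul_apply,
          hTU _ (hinv _ u hu)]
    have hTWn : ∀ k : ℕ, ∀ b ∈ W, (T ^ k) b = b := fun k => by
      induction k with
      | zero => intro b _; rfl
      | succ k ih =>
        intro b hb
        rw [pow_succ', Module.End.mul_apply, ih b hb, hTP b hb.2, Module.End.one_apply]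
    have hper : T ^ r = 1 := LinearMap.ext fun v => by
      obtain ⟨a, ha, b, hb, rfl⟩ := Submodule.mem_sup.mp (hsup.ge (Submodule.mem_top (x := v)))
      rw [map_add, hTUn r a ha, hTWn r b hb, hzr a ha, Module.End.one_apply]
    have hUT : Inv T U := fun u hu => by rw [hTU u hu]; exact hinv z u hu
    have hP := perIso_of hrp hiso hper
    obtain ⟨v, hvU, hv0, hv⟩ : ∃ v ∈ U, v ≠ 0 ∧ aeval T (geom F r) v = 0 := by
      by_contra hno
      push Not at hno
      obtain ⟨-, -, hs⟩ := nd_parts hP hUT hUn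
      rw [show U ⊓ LinearMap.ker (aeval T (geom F r)) = ⊥ from (Submodule.eq_bot_iff _).mpr fun x hx => by
        by_contra hx0
        exact hno x hx.1 hx0 (LinearMap.mem_ker.mp hx.2), sup_bot_eq] at hs
      refine hzN fun u hu => ?_
      rw [← hTU u hu]
      exact (fix_mem_iff u).mp (hs.ge hu).2
    obtain ⟨g, hgi, hgm, hgd, w, hw, hw0, hgw⟩ := exists_factor_ker hUT (geom F r)
      (geom_monic (Fact.out : r.Prime).pos).ne_zero v hvU hv0 hv
    set Y := LinearMap.ker (aeval T g)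
    have hYR : Y ≤ LinearMap.ker (aeval T (geom F r)) := fun x hx => by
      obtain ⟨s, hs⟩ := hgd
      rw [LinearMap.mem_ker] at hx ⊢
      rw [hs, mul_comm, map_mul, Module.End.mul_apply, hx, map_zero]
    have hYU : Y ≤ U := fun x hx => by
      obtain ⟨a, ha, b, hb, rfl⟩ := Submodule.mem_sup.mp (hsup.ge (Submodule.mem_top (x := x)))
      have hb0 : b = 0 := hPn b hb fun y hy => by
        show polar Q b y = 0
        have h1 : polar Q y (a + b) = 0 :=
          (fix_perp hP ((fix_mem_iff y).mpr (by rw [hTP y hy.2, Module.End.one_apply])) (hYR hx)).1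
        rw [polar_add_right, polar_comm Q y a, show polar Q a y = 0 from hy.2 a ha, zero_add, polar_comm] at h1
        exact h1
      rw [hb0, add_zero]; exact ha
    have hYn : ND (polarBilin Q) Y := fun x hx hp =>
      ker_nondeg (fun y hy => hQ y trivial fun z _ => hy z) hP
        (dvd_reverse (p := p) hrp (hi ▸ even_two_mul h) hgi hgd) (reverse_natDegree_le _)
        (fun j hj => reverse_coeff g hj) hx hp
    have hdeg : g.natDegree = 2 * h := hi ▸ geom_degree (p := p) (Fact.out : r.Prime) hrp hgi hgm hgd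
    obtain ⟨hYdvd, -⟩ := dims_of_ker (P := g) (i := 2 * h) (fun g' h1 h2' h3 => by
      rw [← hdeg]; exact natDegree_eq_of_degree_eq (degree_eq_degree_of_associated (h1.associated_of_dvd hgi h3)))
      (inv_ker (T := T) g) le_rfl
    have hYpos : 0 < finrank F Y := Nat.pos_of_ne_zero fun e => hw0 (by
      have := Submodule.finrank_eq_zero.mp e
      exact (Submodule.mem_bot F).mp (this ▸ (LinearMap.mem_ker.mpr hgw : w ∈ Y)))
    have hYe : Even (finrank F Y) := (even_two_mul h).trans_dvd hYdvd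
    have hcommP : ∀ (b : G) (P : F[X]), ∀ u ∈ U, aeval T P (ρ b u) = ρ b (aeval T P u) := fun b P =>
      aeval_comm_of hUT (fun u hu => by rw [hTU _ (hinv b u hu), hTU u hu, hzcomm b u hu]) P
    have hYinv : ∀ b, Inv (ρ b) Y := fun b x hx => by
      rw [LinearMap.mem_ker] at hx ⊢
      rw [hcommP b g x (hYU (LinearMap.mem_ker.mpr hx)), hx, map_zero]
    obtain ⟨P, hPP, hPr⟩ := exists_poly_root (p := p) hrp h2 hc hh hi hgi hgm hgd
    have hker : ∀ {S : F[X]}, g ∣ S → ∀ y ∈ Y, aeval T S y = 0 := fun {S} hS y hy => by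
      obtain ⟨s, rfl⟩ := hS
      rw [mul_comm, map_mul, Module.End.mul_apply, LinearMap.mem_ker.mp hy, map_zero]
    have A₁ : SField Q (aeval T P) c Y := by
      refine ⟨(inv_ker g).aeval P, fun x hx y hy => ?_, fun y hy => ?_⟩
      · have h0 := hker hPr y hy
        rw [map_sub, LinearMap.sub_apply, sub_eq_zero] at h0
        rw [polar_aeval (Fact.out : r.Prime).pos hiso hper, h0]
      · have h0 := hker hPP y hy
        rwa [map_sub, LinearMap.sub_apply, sub_eq_zero, map_mul, Module.End.mul_apply, aeval_C,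
          Module.algebraMap_end_apply] at h0
    obtain ⟨hRn, -, hsupU, hRd⟩ := split_perpIn refl_bilin hYU hYn hUn
    set R := perpIn (polarBilin Q) Y U
    have hRinv : ∀ b, Inv (ρ b) R := fun b x hx => ⟨hinv b x hx.1, fun y hy => by
      show polar Q y (ρ b x) = 0
      rw [← hinvinv b y]
      have : polar Q (ρ b (ρ b⁻¹ y)) (ρ b x) = polar Q (ρ b⁻¹ y) x := by simp only [polar, ← map_add, hρ]
      rw [this]
      exact hx.2 _ (hYinv b⁻¹ y hy)⟩
    have hRe : Even (finrank F R) := by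
      rw [← hRd] at hUe
      exact (Nat.even_add.mp hUe).mp hYe
    obtain ⟨θ₂, A₂, hA₂⟩ := ih (finrank F R) (by omega) R le_rfl hRn hRe hRinv
    obtain ⟨θ, hθY, hθR⟩ := exists_glue hYn hQ (aeval T P) θ₂
    refine ⟨θ, exists_root.glue_sfield (A₁.congr hθY) (A₂.congr fun x hx => hθR x hx.2) hsupU
      (fun y hy x hx => hx.2 y hy), fun b u hu => ?_⟩
    obtain ⟨y, hy, x, hx, rfl⟩ := Submodule.mem_sup.mp (hsupU.ge hu)
    rw [map_add, map_add, hθY _ (hYinv b y hy), hθR _ (hRinv b x hx).2, map_add, hθY y hy, hθR x hx.2, map_add,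
      hcommP b P y (hYU hy), hA₂ b x hx]

end General

section Coord

variable {F : Type u} [Field F] [Fintype F] {ι : Type} [Fintype ι] [DecidableEq ι] (Q : QuadraticForm F (ι → F))
  {p r : ℕ} [Fact p.Prime] [CharP F p] [Fact r.Prime]

/-- The index is prime to `r` when `4 ∣ i`. -/
theorem index_prime_to (hrp : r ≠ p) (hr2 : r ≠ 2) (h2 : (2 : F) ≠ 0)
    (hQ : ND (polarBilin Q) (⊤ : Submodule F (ι → F))) {d : ℕ} (hn : Fintype.card ι = 2 * d)
    {K : Subalgebra F (Matrix ι ι F)} {Θ : Matrix ι ι F} {c : F} (hc : ¬ IsSquare c)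
    (A₀ : SField Q (Matrix.toLin' Θ) c ⊤) (hΘ : Θ ∈ K) (hspan : ∀ k ∈ K, ∃ α β : F, k = α • 1 + β • Θ)
    {h : ℕ} (hh : Even h) (hi : orderOf (Fintype.card F : ZMod r) = 2 * h) :
    ¬ r ∣ (Cfsg.Geo.subalgebraNormalizer K).relIndex (Cfsg.Geo.omegaGL ⇑Q) := by
  classical
  intro hdvd
  have hfr : finrank F (ι → F) = 2 * d := by rw [Module.finrank_fintype_fun_eq_card, hn]
  set Ω := Cfsg.Geo.omegaGL ⇑Q
  obtain ⟨S⟩ := Sylow.nonempty (p := r) (G := Ω)
  let ρ : (S : Subgroup Ω) →* Module.End F (ι → F) :=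
    { toFun := fun s => Matrix.toLin' ((s.1.1 : GL ι F) : Matrix ι ι F)
      map_one' := Matrix.toLin'_one
      map_mul' := fun a b => Matrix.toLin'_mul _ _ }
  obtain ⟨θ, A, hcomm⟩ := exists_commuting (p := p) hrp hr2 h2 hQ hh hi hc S.2 ρ
    (fun s v => by show Q (Matrix.toLin' _ v) = _; rw [Matrix.toLin'_apply]; exact omegaGL_le s.1.2 v)
    _ ⊤ le_rfl hQ (by rw [finrank_top, hfr]; exact even_two_mul d) (fun _ => inv_top)
  obtain ⟨g, hgiso, hgc⟩ := exists_conj h2 hc hQ A₀ A hfr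
  have hunit : IsUnit (LinearMap.toMatrix' g.toLinearMap) := by
    refine IsUnit.of_mul_eq_one (LinearMap.toMatrix' g.symm.toLinearMap) ?_
    rw [← LinearMap.toMatrix'_comp, LinearEquiv.comp_coe, LinearEquiv.symm_trans_self, LinearEquiv.refl_toLinearMap,
      LinearMap.toMatrix'_id]
  set G := hunit.unit
  have hGv : ∀ u, (G : Matrix ι ι F) *ᵥ u = g u := fun u => by
    rw [IsUnit.unit_spec, ← Matrix.toLin'_apply, Matrix.toLin'_toMatrix']
    rfl
  have hGI : G ∈ Cfsg.isometryGroup F ⇑Q := fun u _ => by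
    show Q ((G : Matrix ι ι F) *ᵥ u) = Q u
    rw [hGv]; exact hgiso u
  clear_value G
  let P : Subgroup (GL ι F) := (S : Subgroup Ω).map Ω.subtype
  let P' : Subgroup (GL ι F) := P.map (MulAut.conj G⁻¹).toMonoidHom
  have hΩn : ∀ y ∈ Ω, G⁻¹ * y * G ∈ Ω := by
    rintro _ ⟨y, hy, rfl⟩
    refine ⟨(⟨G, hGI⟩ : Cfsg.isometryGroup F ⇑Q)⁻¹ * y * ⟨G, hGI⟩, ?_, by
      simp only [map_mul, map_inv, Subgroup.coe_subtype]⟩
    have hN : (Cfsg.Omega F ⇑Q).Normal := inferInstanceAs (commutator _).Normal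
    simpa using hN.conj_mem y hy ⟨G, hGI⟩⁻¹
  have hP'Ω : P' ≤ Ω := by
    rintro _ ⟨_, ⟨s, -, rfl⟩, rfl⟩
    simpa using hΩn _ s.2
  have hP'N : P' ≤ Cfsg.Geo.subalgebraNormalizer K := by
    rintro _ ⟨_, ⟨s, hs, rfl⟩, rfl⟩
    refine mem_normalizer hΘ hspan (one_mul 1) ?_
    simp only [MulEquiv.coe_toMonoidHom, MulAut.conj_apply, inv_inv, Subgroup.coe_subtype, one_smul]
    have hback : ∀ u, ((G⁻¹ : GL ι F) : Matrix ι ι F) *ᵥ (θ u) = Θ *ᵥ (((G⁻¹ : GL ι F) : Matrix ι ι F) *ᵥ u) :=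
      fun u => by
        have h := hgc (((G⁻¹ : GL ι F) : Matrix ι ι F) *ᵥ u)
        rw [← hGv, ← hGv, Matrix.toLin'_apply, show (G : Matrix ι ι F) *ᵥ (((G⁻¹ : GL ι F) : Matrix ι ι F) *ᵥ u) = u by
          rw [Matrix.mulVec_mulVec, Units.mul_inv, Matrix.one_mulVec]] at h
        rw [← h, Matrix.mulVec_mulVec, Units.inv_mul, Matrix.one_mulVec]
    refine Matrix.toLin'.injective (LinearMap.ext fun u => ?_)
    simp only [Matrix.toLin'_apply, Units.val_mul, ← Matrix.mulVec_mulVec]
    rw [hGv, show Θ *ᵥ u = Matrix.toLin' Θ u from (Matrix.toLin'_apply Θ u).symm, hgc, ← hGv]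
    have h := hcomm ⟨s, hs⟩ ((G : Matrix ι ι F) *ᵥ u) trivial
    simp only [ρ, MonoidHom.coe_mk, OneHom.coe_mk, Matrix.toLin'_apply] at h
    rw [← h, hback]
  have hidx : P'.relIndex Ω = (S : Subgroup Ω).index := by
    have h1 : Nat.card P' = Nat.card (S : Subgroup Ω) := by
      rw [Subgroup.card_map_of_injective (MulAut.conj G⁻¹).injective,
        Subgroup.card_map_of_injective Ω.subtype_injective]
    have h2' := Subgroup.card_mul_index (P'.subgroupOf Ω)
    have h3 := Subgroup.card_mul_index (S : Subgroup Ω)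
    rw [Nat.card_congr (Subgroup.subgroupOfEquivOfLe hP'Ω).toEquiv, h1, ← h3] at h2'
    exact Nat.eq_of_mul_eq_mul_left Nat.card_pos h2'
  have hrel : (Cfsg.Geo.subalgebraNormalizer K).relIndex Ω ∣ P'.relIndex Ω :=
    Subgroup.relIndex_dvd_of_le_left Ω hP'N
  exact S.not_dvd_index (hidx ▸ hdvd.trans hrel)

end Coord

end CfsgLib.ExtOrth
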