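/-
Elements of order two normalise a conjugate of a self-adjoint quadratic field.
-/
import Cfsg.Agent.Lib.ExtOrth.Field

set_option autoImplicit false
set_option linter.unusedSectionVars false
set_option maxHeartbeats 1000000

namespace CfsgLib.ExtOrth

open Module QuadraticMap CfsgLib.PrimeIso CfsgLib.OrthIso
open scoped Matrix MatrixGroups

universe u v

section General

variable {F : Type u} [Field F] [Fintype F] {V : Type v} [AddCommGroup V] [Module F V] [FiniteDimensional F V]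
  {Q : QuadraticForm F V}

/-- A plane of a square root of `-1` with an anticommuting square root, and its mirror image. -/
theorem anti_plane (h2 : (2 : F) ≠ 0) {T : Module.End F V} (hiso : ∀ v, Q (T v) = Q v)
    (hT : ∀ v, T (T v) = -v) {v : V} (hv : Q v ≠ 0) (c : F) :
    ∃ θ : Module.End F V,
      ND (polarBilin Q) (Submodule.span F {v} ⊔ Submodule.span F {T v}) ∧
      finrank F (Submodule.span F {v} ⊔ Submodule.span F {T v} : Submodule F V) = 2 ∧
      Inv T (Submodule.span F {v} ⊔ Submodule.span F {T v}) ∧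
      Inv (reflMap Q (T v)) (Submodule.span F {v} ⊔ Submodule.span F {T v}) ∧
      SField Q θ c (Submodule.span F {v} ⊔ Submodule.span F {T v}) ∧
      (∀ u ∈ Submodule.span F {v} ⊔ Submodule.span F {T v}, T (θ u) = -θ (T u)) ∧
      ∀ u ∈ Submodule.span F {v} ⊔ Submodule.span F {T v},
        T (reflMap Q (T v) (θ (reflMap Q (T v) u))) = -reflMap Q (T v) (θ (reflMap Q (T v) (T u))) := by
  obtain ⟨hp, -⟩ := quarter_plane h2 hiso hT hv
  have hw : Q (T v) ≠ 0 := by rw [hiso]; exact hv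
  obtain ⟨hPn, hPd, -⟩ := plane_of_pair h2 hv hw hp
  obtain ⟨s, t, θ, -, e1, e2, A⟩ := plane_root h2 hv hw hp c
  rw [hiso, div_self hv, mul_one] at e2
  set h := reflMap Q (T v) with hh
  have k1 : h v = v := reflMap_fix (by rw [polar_comm]; exact hp)
  have k2 : h (T v) = -T v := refl_self h2 hw
  have key : ∀ x ∈ Submodule.span F {v} ⊔ Submodule.span F {T v}, ∃ α β : F, x = α • v + β • T v := fun x hx => by
    obtain ⟨a, ha, b, hb, rfl⟩ := Submodule.mem_sup.mp hx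
    obtain ⟨α, rfl⟩ := Submodule.mem_span_singleton.mp ha
    obtain ⟨β, rfl⟩ := Submodule.mem_span_singleton.mp hb
    exact ⟨α, β, rfl⟩
  have mk : ∀ α β : F, α • v + β • T v ∈ Submodule.span F {v} ⊔ Submodule.span F {T v} := fun α β =>
    Submodule.add_mem_sup (Submodule.smul_mem _ _ (Submodule.mem_span_singleton_self v))
      (Submodule.smul_mem _ _ (Submodule.mem_span_singleton_self (T v)))
  refine ⟨θ, hPn, hPd, fun x hx => ?_, fun x hx => ?_, A, fun x hx => ?_, fun x hx => ?_⟩ <;>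
    obtain ⟨α, β, rfl⟩ := key x hx
  · rw [map_add, map_smul, map_smul, hT, show α • T v + β • -v = (-β) • v + α • T v by module]
    exact mk _ _
  · rw [map_add, map_smul, map_smul, k1, k2, smul_neg, ← neg_smul]
    exact mk _ _
  · simp only [map_add, map_smul, map_sub, map_neg, e1, e2, hT]
    module
  · simp only [map_add, map_smul, map_sub, map_neg, k1, k2, e1, e2, hT]
    module

/-- An anticommuting square root. -/
theorem exists_anti (h2 : (2 : F) ≠ 0) (hQ : ND (polarBilin Q) (⊤ : Submodule F V)) {T : Module.End F V}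
    (hiso : ∀ v, Q (T v) = Q v) (hT : ∀ v, T (T v) = -v) (c : F) (e : ℕ) :
    ∀ U : Submodule F V, Inv T U → ND (polarBilin Q) U → finrank F U = 2 * e →
      ∃ θ : Module.End F V, SField Q θ c U ∧ ∀ u ∈ U, T (θ u) = -θ (T u) := by
  induction e with
  | zero =>
    intro U _ _ hd
    have hU : U = ⊥ := Submodule.finrank_eq_zero.mp (by omega)
    exact ⟨0, ⟨fun u _ => U.zero_mem, fun u _ v _ => by simp, fun v hv => by
      rw [hU, Submodule.mem_bot] at hv; rw [hv]; simp⟩, fun u _ => by simp⟩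
  | succ e ih =>
    intro U hUT hU hd
    obtain ⟨v, hv, hQv⟩ := exists_aniso hU fun e0 => by rw [e0, finrank_bot] at hd; omega
    obtain ⟨θ₁, hPn, hPd, hPT, -, A₁, hA₁, -⟩ := anti_plane h2 hiso hT hQv c
    set P := Submodule.span F {v} ⊔ Submodule.span F {T v}
    have hPU : P ≤ U := sup_le ((Submodule.span_singleton_le_iff_mem v U).mpr hv)
      ((Submodule.span_singleton_le_iff_mem _ U).mpr (hUT v hv))
    obtain ⟨hRn, -, hsup, hRd⟩ := split_perpIn refl_bilin hPU hPn hU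
    set R := perpIn (polarBilin Q) P U
    have hRT : Inv T R := fun x hx => ⟨hUT x hx.1, fun y hy => by
      show polar Q y (T x) = 0
      have h : polar Q (T (T y)) (T x) = polar Q (T y) x := by simp only [polar, ← map_add, hiso]
      rw [hT, polar_neg_left, show polar Q (T y) x = 0 from hx.2 _ (hPT y hy), neg_eq_zero] at h
      exact h⟩
    obtain ⟨θ₂, A₂, hA₂⟩ := ih R hRT hRn (by omega)
    obtain ⟨θ, hθP, hθR⟩ := exists_glue hPn hQ θ₁ θ₂
    refine ⟨θ, exists_root.glue_sfield (A₁.congr hθP) (A₂.congr fun z hz => hθR z hz.2) hsup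
      (fun y hy z hz => hz.2 y hy), fun u hu => ?_⟩
    obtain ⟨a, ha, b, hb, rfl⟩ := Submodule.mem_sup.mp (hsup.ge hu)
    rw [map_add, hθP a ha, hθR b hb.2, map_add, hA₁ a ha, hA₂ b hb, map_add, map_add, hθP _ (hPT a ha),
      hθR _ (hRT b hb).2, neg_add]

/-- Two anticommuting square roots exchanged by a reflection. -/
theorem exists_turn (h2 : (2 : F) ≠ 0) (hQ : ND (polarBilin Q) (⊤ : Submodule F V)) {T : Module.End F V}
    (hiso : ∀ v, Q (T v) = Q v) (hT : ∀ v, T (T v) = -v) (c : F) {d : ℕ} (hn : finrank F V = 2 * d) (hd : 0 < d) :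
    ∃ (θ : Module.End F V) (w : V), Q w ≠ 0 ∧ SField Q θ c ⊤ ∧ (∀ u, T (θ u) = -θ (T u)) ∧
      ∀ u, T (reflMap Q w (θ (reflMap Q w u))) = -reflMap Q w (θ (reflMap Q w (T u))) := by
  obtain ⟨v, -, hQv⟩ := exists_aniso hQ fun e0 => by
    have := finrank_top F V
    rw [e0, finrank_bot] at this; omega
  obtain ⟨θ₁, hPn, hPd, hPT, hPh, A₁, hA₁, hB₁⟩ := anti_plane h2 hiso hT hQv c
  set P := Submodule.span F {v} ⊔ Submodule.span F {T v}
  obtain ⟨hRn, -, hsup, hRd⟩ := split_perpIn refl_bilin (le_top (a := P)) hPn hQ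
  set R := perpIn (polarBilin Q) P ⊤
  rw [finrank_top, hn] at hRd
  have hRT : Inv T R := fun x hx => ⟨trivial, fun y hy => by
    show polar Q y (T x) = 0
    have h : polar Q (T (T y)) (T x) = polar Q (T y) x := by simp only [polar, ← map_add, hiso]
    rw [hT, polar_neg_left, show polar Q (T y) x = 0 from hx.2 _ (hPT y hy), neg_eq_zero] at h
    exact h⟩
  obtain ⟨θ₂, A₂, hA₂⟩ := exists_anti h2 hQ hiso hT c (d - 1) R hRT hRn (by omega)
  obtain ⟨θ, hθP, hθR⟩ := exists_glue hPn hQ θ₁ θ₂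
  set w := T v with hw
  have hwP : w ∈ P := Submodule.mem_sup_right (Submodule.mem_span_singleton_self w)
  have hfix : ∀ b ∈ R, reflMap Q w b = b := fun b hb => reflMap_fix (hb.2 w hwP)
  refine ⟨θ, w, by rw [hw, hiso]; exact hQv, exists_root.glue_sfield (A₁.congr hθP) (A₂.congr fun z hz => hθR z hz.2)
    hsup (fun y hy z hz => hz.2 y hy), fun u => ?_, fun u => ?_⟩ <;>
    obtain ⟨a, ha, b, hb, rfl⟩ := Submodule.mem_sup.mp (hsup.ge (Submodule.mem_top (x := u)))
  · rw [map_add, hθP a ha, hθR b hb.2, map_add, hA₁ a ha, hA₂ b hb, map_add, map_add, hθP _ (hPT a ha),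
      hθR _ (hRT b hb).2, neg_add]
  · have hθb : θ₂ b ∈ R := A₂.maps b hb
    have hTb : T b ∈ R := hRT b hb
    have hθTb : θ₂ (T b) ∈ R := A₂.maps _ hTb
    simp only [map_add, hfix b hb, hfix _ hTb, hθR b hb.2, hθR _ hTb.2, hθP _ (hPh a ha),
      hθP _ (hPh _ (hPT a ha)), hfix _ hθb, hfix _ hθTb, hB₁ a ha, hA₂ b hb, neg_add]

theorem reflMap_invol (h2 : (2 : F) ≠ 0) {w : V} (hw : Q w ≠ 0) (u : V) : reflMap Q w (reflMap Q w u) = u := by
  conv_lhs => arg 2; rw [reflMap_apply]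
  rw [map_sub, map_smul, refl_self h2 hw, reflMap_apply]
  module

theorem reflMap_iso (h2 : (2 : F) ≠ 0) {w : V} (hw : Q w ≠ 0) (u : V) : Q (reflMap Q w u) = Q u := by
  rw [reflMap_apply, sub_eq_add_neg, ← neg_smul, q_add, QuadraticMap.map_smul, polar_smul_right,
    polar_comm Q u w]
  simp only [smul_eq_mul]
  field_simp
  ring

end General

section Coord

variable {F : Type u} [Field F] [Fintype F] {ι : Type} [Fintype ι] [DecidableEq ι] (Q : QuadraticForm F (ι → F))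

theorem exists_iso_prod [DecidableEq F] (h2 : (2 : F) ≠ 0) (hQ : (polarBilin Q).Nondegenerate) (vs : List (ι → F))
    (hvs : ∀ v ∈ vs, Q v ≠ 0) :
    ∃ H : Cfsg.isometryGroup F ⇑Q, (∀ u, (H.1 : Matrix ι ι F) *ᵥ u = (vs.map (reflMap Q)).prod u) ∧
      CfsgLib.SpinorMatrix.phi Q hQ (CfsgLib.SpinorMatrix.hc_odd Q h2 hQ) (CfsgLib.SpinorMatrix.isoEquiv Q H) =
        ((-1) ^ vs.length, if IsSquare (vs.map fun v => Q v).prod then (-1) ^ vs.length else -(-1) ^ vs.length) := by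
  obtain ⟨H, hH, hphi⟩ := CfsgLib.OmegaMem.exists_refl_prod Q h2 hQ vs hvs
  refine ⟨H, fun u => ?_, hphi⟩
  rw [hH]
  clear hphi hH hvs
  induction vs generalizing u with
  | nil => simp
  | cons a t ih =>
    rw [List.map_cons, List.map_cons, List.prod_cons, List.prod_cons, ← Matrix.mulVec_mulVec, ih,
      Module.End.mul_apply, CfsgLib.PolarVec.reflection_mulVec, reflMap_apply, div_eq_inv_mul, neg_smul, ← sub_eq_add_neg]

/-- An element of order two has a conjugate in the normaliser. -/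
theorem two_fixes (h2 : (2 : F) ≠ 0) (hQ : ND (polarBilin Q) (⊤ : Submodule F (ι → F))) {d : ℕ}
    (hn : Fintype.card ι = 2 * d) (hd : 2 ≤ d) {K : Subalgebra F (Matrix ι ι F)} {Θ : Matrix ι ι F} {c : F}
    (hc : ¬ IsSquare c) (A₀ : SField Q (Matrix.toLin' Θ) c ⊤) (hΘ : Θ ∈ K)
    (hspan : ∀ k ∈ K, ∃ α β : F, k = α • 1 + β • Θ) (x : GL ι F) (hx : x ∈ Cfsg.Geo.omegaGL ⇑Q) {z : F}
    (hz : ((x ^ 2 : GL ι F) : Matrix ι ι F) = z • 1) (hns : ∀ z : F, (x : Matrix ι ι F) ≠ z • 1) :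
    ∃ g ∈ Cfsg.Geo.omegaGL ⇑Q, g⁻¹ * x * g ∈ Cfsg.Geo.subalgebraNormalizer K := by
  classical
  have hfr : finrank F (ι → F) = 2 * d := by rw [Module.finrank_fintype_fun_eq_card, hn]
  have hnd := nondeg_of hQ
  set T : Module.End F (ι → F) := Matrix.toLin' (x : Matrix ι ι F) with hTdef
  have hiso : ∀ v, Q (T v) = Q v := fun v => by rw [hTdef, Matrix.toLin'_apply]; exact omegaGL_le hx v
  have hTT : ∀ v, T (T v) = z • v := fun v => by
    simp only [hTdef, Matrix.toLin'_apply]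
    rw [Matrix.mulVec_mulVec, ← Units.val_mul, ← pow_two, hz, Matrix.smul_mulVec, Matrix.one_mulVec]
  obtain ⟨g₀, -, hg₀⟩ := exists_aniso hQ fun e => by
    have := finrank_top F (ι → F)
    rw [e, finrank_bot, hfr] at this; omega
  have hzz : z * z = 1 := scalar_sq (Q := Q) hg₀ (by
    have h := hiso (T g₀)
    rwa [hTT, hiso g₀] at h)
  -- a square root and a reflection
  obtain ⟨θ, w, σ, hw, hσ, A, hG₁, hG₂⟩ : ∃ (θ : Module.End F (ι → F)) (w : ι → F) (σ : F), Q w ≠ 0 ∧ σ * σ = 1 ∧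
      SField Q θ c ⊤ ∧ (∀ u, T (θ u) = σ • θ (T u)) ∧
      ∀ u, T (reflMap Q w (θ (reflMap Q w u))) = σ • reflMap Q w (θ (reflMap Q w (T u))) := by
    rcases mul_self_eq_one_iff.mp hzz with hz1 | hz1
    · subst hz1
      simp only [one_smul] at hTT
      obtain ⟨A, C, hA, hC, hAn, hCn, horth, htop, hinf, hdim, -⟩ := involution_parts h2 hQ hiso hTT
      obtain ⟨hCe, -⟩ := (involution_omega h2 Q hQ (by omega) (fun u _ => omegaGL_le hx u)
        (A := A) (C := C) (fun v => by rw [hA, hTdef, Matrix.toLin'_apply])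
        (fun v => by rw [hC, hTdef, Matrix.toLin'_apply]) hCn horth htop).mp hx
      rw [hfr] at hdim
      obtain ⟨b, hb⟩ := hCe
      obtain ⟨θ₁, A₁⟩ := exists_root h2 hQ c (d - b) A hAn (by omega)
      obtain ⟨θ₂, A₂⟩ := exists_root h2 hQ c b C hCn (by omega)
      obtain ⟨θ, hθA, hθC'⟩ := exists_glue hAn hQ θ₁ θ₂
      have hθC : ∀ v ∈ C, θ v = θ₂ v := fun v hv => hθC' v fun y hy => horth y hy v hv
      have hAne : A ≠ ⊥ := fun e => hns (-1) (by
        rw [e, bot_sup_eq] at htop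
        refine Matrix.toLin'.injective (LinearMap.ext fun v => ?_)
        rw [← hTdef, map_smul, Matrix.toLin'_one, LinearMap.smul_apply, LinearMap.id_apply, neg_one_smul]
        exact (hC v).mp (htop.ge trivial))
      obtain ⟨w, hwA, hw⟩ := exists_aniso hAn hAne
      have hfix : ∀ v ∈ C, reflMap Q w v = v := fun v hv => reflMap_fix (horth w hwA v hv)
      have hAi : ∀ v ∈ A, reflMap Q w v ∈ A := fun v hv => by
        rw [reflMap_apply]; exact sub_mem hv (A.smul_mem _ hwA)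
      have AA := A₁.congr hθA
      have AC := A₂.congr hθC
      refine ⟨θ, w, 1, hw, one_mul 1, exists_root.glue_sfield AA AC htop horth, fun u => ?_, fun u => ?_⟩ <;>
        obtain ⟨a, ha, b, hb, rfl⟩ := Submodule.mem_sup.mp (htop.ge (Submodule.mem_top (x := u))) <;>
        rw [one_smul]
      · simp only [map_add, (hA a).mp ha, (hC b).mp hb, map_neg, (hA _).mp (AA.maps a ha), (hC _).mp (AC.maps b hb)]
      · simp only [map_add, (hA a).mp ha, (hC b).mp hb, map_neg, hfix b hb, hfix _ (AC.maps b hb),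
          (hC _).mp (AC.maps b hb), (hA _).mp (hAi _ (AA.maps _ (hAi a ha)))]
    · subst hz1
      simp only [neg_one_smul] at hTT
      obtain ⟨θ, w, hw, A, h1, h3⟩ := exists_turn h2 hQ hiso hTT c hfr (by omega)
      exact ⟨θ, w, -1, hw, by ring, A, fun u => by rw [neg_one_smul]; exact h1 u,
        fun u => by rw [neg_one_smul]; exact h3 u⟩
  obtain ⟨g, hgiso, hgc⟩ := exists_conj h2 hc hQ A₀ A hfr
  have hunit : IsUnit (LinearMap.toMatrix' g.toLinearMap) := by
    refine IsUnit.of_mul_eq_one (LinearMap.toMatrix' g.symm.toLinearMap) ?_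
    rw [← LinearMap.toMatrix'_comp, LinearEquiv.comp_coe, LinearEquiv.symm_trans_self, LinearEquiv.refl_toLinearMap,
      LinearMap.toMatrix'_id]
  have hG₀v : ∀ u, (hunit.unit : Matrix ι ι F) *ᵥ u = g u := fun u => by
    rw [IsUnit.unit_spec, ← Matrix.toLin'_apply, Matrix.toLin'_toMatrix']
    rfl
  let G₀ : Cfsg.isometryGroup F ⇑Q := ⟨hunit.unit, fun u _ => by
    show Q ((hunit.unit : Matrix ι ι F) *ᵥ u) = Q u
    rw [hG₀v]; exact hgiso u⟩
  -- a reflection and a sign element commuting with the field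
  obtain ⟨H, hH, hHphi⟩ := exists_iso_prod Q h2 hnd [w] (by simpa using hw)
  obtain ⟨b₀, a₀, hne, hb₀⟩ : ∃ b a : F, ¬ (b = 0 ∧ a = 0) ∧
      (IsSquare (b * b - 4 * c * (a * a)) ↔ ¬ IsSquare (-1 : F)) := by
    by_cases h1 : IsSquare (-1 : F)
    · obtain ⟨N, hN⟩ := FiniteField.exists_nonsquare (F := F) fun e => h2 (by
        haveI := ringChar.of_eq e; exact CharTwo.two_eq_zero)
      have h4 : -(4 * c) ≠ (0 : F) := neg_ne_zero.mpr (mul_ne_zero (by
        rw [show (4 : F) = 2 * 2 by norm_num]; exact mul_ne_zero h2 h2) (c_ne_zero hc))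
      obtain ⟨b, a, hba⟩ := two_squares h2 one_ne_zero h4 N
      refine ⟨b, a, fun ⟨hb, ha⟩ => hN ⟨0, by rw [← hba, hb, ha]; ring⟩, iff_of_false (fun h => hN ?_) (not_not.mpr h1)⟩
      rwa [← hba, show 1 * (b * b) + -(4 * c) * (a * a) = b * b - 4 * c * (a * a) by ring]
    · exact ⟨1, 0, fun ⟨hb, _⟩ => one_ne_zero hb, iff_of_true ⟨1, by ring⟩ h1⟩
  obtain ⟨v, -, hvb, hva⟩ := A₀.exists_value h2 hc hQ (by rw [finrank_top, hfr]; omega) b₀ a₀
  obtain ⟨-, hPI, hPn, hPd, hPp⟩ := A₀.plane hc h2 (v := v) trivial (by rwa [hvb, hva])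
  rw [hvb, hva, hb₀] at hPp
  obtain ⟨vs, hvs, hlen, hneg, hpl⟩ := neg_plane h2 hPn hPd
  obtain ⟨S, hS, hSphi⟩ := exists_iso_prod Q h2 hnd vs fun v hv => (hvs v hv).1
  set P := Submodule.span F {v, Matrix.toLin' Θ v}
  obtain ⟨hRn, -, hsup, -⟩ := split_perpIn refl_bilin (le_top (a := P)) hPn hQ
  have hSfix : ∀ u ∈ perpIn (polarBilin Q) P ⊤, (S.1 : Matrix ι ι F) *ᵥ u = u := fun u hu => by
    rw [hS]; exact prod_fix vs u fun y hy => hu.2 y (hvs y hy).2
  have hSc : ∀ u, (S.1 : Matrix ι ι F) *ᵥ (Θ *ᵥ u) = Θ *ᵥ ((S.1 : Matrix ι ι F) *ᵥ u) := fun u => by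
    obtain ⟨a, ha, b, hb, rfl⟩ := Submodule.mem_sup.mp (hsup.ge (Submodule.mem_top (x := u)))
    have hb' : Θ *ᵥ b ∈ perpIn (polarBilin Q) P ⊤ := by
      rw [← Matrix.toLin'_apply]; exact A₀.inv_perp le_top hPI b hb
    have ha' : Θ *ᵥ a ∈ P := by rw [← Matrix.toLin'_apply]; exact hPI a ha
    simp only [Matrix.mulVec_add, hSfix b hb, hSfix _ hb']
    rw [hS, hS, hneg a ha, hneg _ ha', Matrix.mulVec_neg]
  have hSn : ¬ IsSquare (vs.map fun v => Q v).prod := by
    intro hsq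
    have hp0 : (vs.map fun v => Q v).prod ≠ 0 := by
      apply List.prod_ne_zero
      intro h0
      obtain ⟨y, hy, hy0⟩ := List.mem_map.mp h0
      exact (hvs y hy).1 hy0
    rw [hPp, neg_eq_neg_one_mul (List.map (fun v => Q v) vs).prod, CfsgLib.OmegaMem.isSquare_mul_iff h2 (neg_ne_zero.mpr one_ne_zero) hp0] at hpl
    simp only [hsq, iff_true] at hpl
    by_cases h1 : IsSquare (-1 : F)
    · exact hpl.mpr h1 h1
    · exact h1 (hpl.mp h1)
  rw [hlen, if_neg hSn, neg_one_sq] at hSphi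
  rw [List.length_singleton, pow_one] at hHphi
  -- the product in the derived group
  have hΘv : ∀ u, Matrix.toLin' Θ u = Θ *ᵥ u := fun u => Matrix.toLin'_apply Θ u
  have hG₀c : ∀ u, (G₀.1 : Matrix ι ι F) *ᵥ (Θ *ᵥ u) = θ ((G₀.1 : Matrix ι ι F) *ᵥ u) := fun u => by
    show (hunit.unit : Matrix ι ι F) *ᵥ _ = θ ((hunit.unit : Matrix ι ι F) *ᵥ u)
    rw [hG₀v, hG₀v, ← hΘv, hgc]
  have hGS : ∀ u, ((G₀ * S).1 : Matrix ι ι F) *ᵥ (Θ *ᵥ u) = θ (((G₀ * S).1 : Matrix ι ι F) *ᵥ u) := fun u => by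
    rw [Subgroup.coe_mul, Units.val_mul, ← Matrix.mulVec_mulVec, ← Matrix.mulVec_mulVec, hSc, hG₀c]
  have hHc : ∀ (G : Cfsg.isometryGroup F ⇑Q), (∀ u, (G.1 : Matrix ι ι F) *ᵥ (Θ *ᵥ u) = θ ((G.1 : Matrix ι ι F) *ᵥ u)) →
      ∀ u, ((H * G).1 : Matrix ι ι F) *ᵥ (Θ *ᵥ u) =
        reflMap Q w (θ (reflMap Q w (((H * G).1 : Matrix ι ι F) *ᵥ u))) := fun G hG u => by
    rw [Subgroup.coe_mul, Units.val_mul, ← Matrix.mulVec_mulVec, ← Matrix.mulVec_mulVec, hH, hH, hG]
    simp only [List.map_cons, List.map_nil, List.prod_cons, List.prod_nil, mul_one]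
    rw [reflMap_invol h2 hw]
  set f := fun G : Cfsg.isometryGroup F ⇑Q =>
    CfsgLib.SpinorMatrix.phi Q hnd (CfsgLib.SpinorMatrix.hc_odd Q h2 hnd) (CfsgLib.SpinorMatrix.isoEquiv Q G)
  have hfmul : ∀ a b, f (a * b) = f a * f b := fun a b => by simp only [f, map_mul]
  obtain ⟨G, hG, θ', hθ', hgood⟩ : ∃ G : Cfsg.isometryGroup F ⇑Q, f G = 1 ∧ ∃ θ' : (ι → F) → (ι → F),
      (∀ u, (G.1 : Matrix ι ι F) *ᵥ (Θ *ᵥ u) = θ' ((G.1 : Matrix ι ι F) *ᵥ u)) ∧ ∀ u, T (θ' u) = σ • θ' (T u) := by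
    rcases Int.units_eq_one_or (f G₀).1 with ha | ha <;> rcases Int.units_eq_one_or (f G₀).2 with hb | hb
    · exact ⟨G₀, Prod.ext ha hb, θ, hG₀c, hG₁⟩
    · exact ⟨G₀ * S, by rw [hfmul, show f S = _ from hSphi]; exact Prod.ext (by simp [ha]) (by simp [hb]), θ, hGS, hG₁⟩
    · by_cases h1 : IsSquare (([w].map fun v => Q v).prod)
      · rw [if_pos h1] at hHphi
        exact ⟨H * (G₀ * S), by rw [hfmul, hfmul, show f S = _ from hSphi, show f H = _ from hHphi]
                                exact Prod.ext (by simp [ha]) (by simp [hb]),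
          fun u => reflMap Q w (θ (reflMap Q w u)), hHc _ hGS, hG₂⟩
      · rw [if_neg h1] at hHphi
        exact ⟨H * G₀, by rw [hfmul, show f H = _ from hHphi]; exact Prod.ext (by simp [ha]) (by simp [hb]),
          fun u => reflMap Q w (θ (reflMap Q w u)), hHc _ hG₀c, hG₂⟩
    · by_cases h1 : IsSquare (([w].map fun v => Q v).prod)
      · rw [if_pos h1] at hHphi
        exact ⟨H * G₀, by rw [hfmul, show f H = _ from hHphi]; exact Prod.ext (by simp [ha]) (by simp [hb]),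
          fun u => reflMap Q w (θ (reflMap Q w u)), hHc _ hG₀c, hG₂⟩
      · rw [if_neg h1] at hHphi
        exact ⟨H * (G₀ * S), by rw [hfmul, hfmul, show f S = _ from hSphi, show f H = _ from hHphi]
                                exact Prod.ext (by simp [ha]) (by simp [hb]),
          fun u => reflMap Q w (θ (reflMap Q w u)), hHc _ hGS, hG₂⟩
  refine ⟨G.1, ⟨G, (CfsgLib.OmegaMem.omega_iff Q h2 (by omega) hnd G).mpr hG, rfl⟩, mem_normalizer hΘ hspan hσ ?_⟩
  have hback : ∀ u, ((G.1⁻¹ : GL ι F) : Matrix ι ι F) *ᵥ (θ' u) = Θ *ᵥ (((G.1⁻¹ : GL ι F) : Matrix ι ι F) *ᵥ u) :=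
    fun u => by
      have h := hθ' (((G.1⁻¹ : GL ι F) : Matrix ι ι F) *ᵥ u)
      rw [show (G.1 : Matrix ι ι F) *ᵥ (((G.1⁻¹ : GL ι F) : Matrix ι ι F) *ᵥ u) = u by
        rw [Matrix.mulVec_mulVec, Units.mul_inv, Matrix.one_mulVec]] at h
      rw [← h, Matrix.mulVec_mulVec, Units.inv_mul, Matrix.one_mulVec]
  refine Matrix.toLin'.injective (LinearMap.ext fun u => ?_)
  simp only [Matrix.toLin'_apply, Units.val_mul, Matrix.smul_mulVec, ← Matrix.mulVec_mulVec, hθ']
  have h := hgood ((G.1 : Matrix ι ι F) *ᵥ u)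
  simp only [hTdef, Matrix.toLin'_apply] at h
  rw [h, Matrix.mulVec_smul, hback]

end Coord

end CfsgLib.ExtOrth
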