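/-
Elusive primes for the stabiliser of a self-adjoint quadratic field in an even-dimensional orthogonal group.
-/
import Cfsg.Agent.Lib.ExtOrth.Two
import Cfsg.Agent.Lib.ExtOrth.Good

set_option autoImplicit false
set_option linter.unusedSectionVars false
set_option maxHeartbeats 1000000

namespace CfsgLib.ExtOrth

open Module Polynomial QuadraticMap CfsgLib.PrimeIso CfsgLib.OrthIso CfsgLib.MaxSub.Elusive
open scoped Matrix MatrixGroups

universe u

variable {F : Type u} [Field F] [Fintype F] {ι : Type} [Fintype ι] [DecidableEq ι] {p : ℕ} [Fact p.Prime] [CharP F p]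

theorem ext_orth_iff (hp2 : p ≠ 2) (Q : QuadraticForm F (ι → F)) (hQ : ND (polarBilin Q) (⊤ : Submodule F (ι → F)))
    {d : ℕ} (hn : Fintype.card ι = 2 * d) (hd : 4 ≤ d)
    (K : Subalgebra F (Matrix ι ι F)) (hK : Cfsg.Geo.IsFieldSubalgebra 2 K)
    (hKf : Cfsg.Geo.IsSelfAdjointFor (polar ⇑Q) K) (r : ℕ) [Fact r.Prime]
    (hΩ : r ∣ (Cfsg.Geo.subalgebraNormalizer K).relIndex (Cfsg.Geo.omegaGL ⇑Q)) :
    (∀ x ∈ Cfsg.Geo.omegaGL ⇑Q, (∃ z : F, ((x ^ r : GL ι F) : Matrix ι ι F) = z • (1 : Matrix ι ι F)) →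
      (∀ z : F, (x : Matrix ι ι F) ≠ z • (1 : Matrix ι ι F)) →
      ∃ g ∈ Cfsg.Geo.omegaGL ⇑Q, g⁻¹ * x * g ∈ Cfsg.Geo.subalgebraNormalizer K) ↔ r = 2 := by
  classical
  have h2 := two_ne (F := F) hp2
  have : Nonempty ι := Fintype.card_pos_iff.mp (by omega)
  have hfr : finrank F (ι → F) = 2 * d := by rw [Module.finrank_fintype_fun_eq_card, hn]
  obtain ⟨Θ, hΘ, c, hc, A₀, hspan⟩ := exists_field h2 Q hK hKf
  constructor
  · intro hall
    by_contra hr2
    have hrodd : Odd r := (Fact.out : r.Prime).odd_of_ne_two hr2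
    obtain ⟨T, hT, hTr, hT1, hkey⟩ : ∃ T : Module.End F (ι → F), (∀ v, Q (T v) = Q v) ∧ T ^ r = 1 ∧ T ≠ 1 ∧
        ∀ θ : Module.End F (ι → F), SField Q θ c ⊤ → (∀ v, T (θ v) = θ (T v)) → False := by
      by_cases hrp : r = p
      · subst hrp
        exact exists_unipotent_bad hp2 hQ hfr (by omega) hc
      obtain ⟨i, hi⟩ : ∃ i, i = orderOf (Fintype.card F : ZMod r) := ⟨_, rfl⟩
      by_cases h4 : 4 ∣ i
      · obtain ⟨k, hk⟩ := h4
        exact absurd hΩ (index_prime_to Q (p := p) hrp hr2 h2 hQ hn hc A₀ hΘ hspan (h := 2 * k) (even_two_mul k)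
          (by omega))
      obtain ⟨y, hy⟩ := exists_prime_orderOf_dvd_card' (G := Cfsg.Geo.omegaGL ⇑Q) r
        (hΩ.trans (Subgroup.relIndex_dvd_card _ _))
      have hy1 : (y.1 : GL ι F) ^ r = 1 := by
        rw [← Subgroup.coe_pow, ← hy, pow_orderOf_eq_one, Subgroup.coe_one]
      set T₀ := Matrix.toLin' (y.1 : Matrix ι ι F) with hT₀
      have hT₀i : ∀ v, Q (T₀ v) = Q v := fun v => by rw [hT₀, Matrix.toLin'_apply]; exact omegaGL_le y.2 v
      obtain ⟨cb, hcb⟩ : ∃ cb, cb = if Even i then i else 2 * i := ⟨_, rfl⟩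
      obtain ⟨hcbpos, -⟩ := block_pos (F := F) (p := p) hrp hi hcb
      obtain ⟨-, -, e, -, hsum, -, hk0⟩ := fix_data hrp hr2 hQ hfr hi hcb hT₀i (toLin'_pow_eq hy1)
      have he0 : e ≠ 0 := fun e0 => by
        rw [e0, zero_mul, add_zero] at hsum
        have hy' : y.1 = 1 := Units.ext (Matrix.toLin'.injective (LinearMap.ext fun v => by
          rw [Units.val_one, Matrix.toLin'_one, LinearMap.id_apply]
          exact (fix_mem_iff v).mp ((Submodule.eq_top_of_finrank_eq (hsum.trans hfr.symm)).ge trivial)))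
        rw [show y = 1 from Subtype.ext hy', orderOf_one] at hy
        exact (Fact.out : r.Prime).one_lt.ne hy
      have hle : cb ≤ e * cb := Nat.le_mul_of_pos_left cb (Nat.pos_of_ne_zero he0)
      obtain ⟨T, hT, hTr, hTk⟩ := exists_even_model (p := p) (r := r) hrp hr2 hp2 hQ (d := d) hfr hi hcb (e := 1)
        (k := 2 * d - cb) (by omega) (fun hk => by
          have he1 : e * cb = 1 * cb := by omega
          have := hk0 (by omega)
          rwa [Nat.eq_of_mul_eq_mul_right hcbpos he1] at this)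
      have hs := finrank_split (perIso_of hrp hT hTr) (inv_top (T := T))
      rw [top_inf_eq, top_inf_eq, finrank_top, hfr, hTk] at hs
      refine ⟨T, hT, hTr, fun e1 => ?_, fun θ A hcomm =>
        no_commuting (p := p) hrp hr2 h2 hQ hi hcb h4 hT hTr (by omega) hc A hcomm⟩
      rw [e1, show aeval (1 : Module.End F (ι → F)) (X - Polynomial.C (1 : F)) = 0 by simp, LinearMap.ker_zero,
        finrank_top, hfr] at hTk
      omega
    obtain ⟨x, hx, hz, hns, hno⟩ := bad_of Q h2 hQ (by omega) hc A₀ hΘ hspan hrodd T hT hTr hT1 hkey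
    obtain ⟨g, hg, hmem⟩ := hall x hx hz hns
    exact hno g hg hmem
  · rintro rfl x hx ⟨z, hz⟩ hns
    exact two_fixes Q h2 hQ hn (by omega) hc A₀ hΘ hspan x hx hz hns

end CfsgLib.ExtOrth
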